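import Groth.Agent.H15Site.EffDesc.RelLocus
import Groth.Agent.H18PBC.FieldExt
import Groth.Agent.H06Desc.Discrete
import Mathlib.AlgebraicGeometry.Morphisms.QuasiFinite

/-!
# Effective descent of etale sheaves of sets along surjections onto discrete schemes
-/

set_option autoImplicit false
set_option linter.style.haveILetI false
set_option linter.unusedSectionVars false
set_option backward.isDefEq.respectTransparency false
set_option backward.isDefEq.respectTransparency.types false

universe u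

open CategoryTheory CategoryTheory.Limits AlgebraicGeometry Opposite
open scoped Groth.Agent.H18Et

namespace Groth.Agent.H15Site.EffDesc

open H15Site.SetDescent H18Et H18PBC

variable {X' X : Scheme.{u}} {f : X' ⟶ X} {F' : EtDesc.Sh X'}
  {φ : (EtDesc.pullSh (pullback.fst f f)).obj F' ≅ (EtDesc.pullSh (pullback.snd f f)).obj F'}

theorem universallyOpen_spec_field {Ω : Type u} [Field Ω] {Y : Scheme.{u}} (g : Y ⟶ Spec (CommRingCat.of Ω)) :
    UniversallyOpen g := by
  haveI : DiscreteTopology ↥(Spec (CommRingCat.of Ω)) := Subsingleton.discreteTopology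
  exact H06Desc.universallyOpen_of_discreteTopology g

variable (hφ : EtDesc.IsCocycle F' φ)

include hφ in
/-- Over a separably closed field the values at two points of a field extension are related. -/
theorem rel_of_sepClosed {k Ω : Type u} [Field k] [IsSepClosed k] [Field Ω] (r : k →+* Ω)
    {U : X'.Etale} (σ : F'.obj.obj (op U)) (l : Spec (CommRingCat.of Ω) ⟶ U.left)
    (β : Spec (CommRingCat.of k) ⟶ X) (hβ : (l ≫ U.hom) ≫ f = Spec.map (CommRingCat.ofHom r) ≫ β)
    {Ω' : Type u} [Field Ω'] [IsAlgClosed Ω'] (z z' : Spec (CommRingCat.of Ω') ⟶ Spec (CommRingCat.of Ω))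
    (h : z ≫ Spec.map (CommRingCat.ofHom r) = z' ≫ Spec.map (CommRingCat.ofHom r)) :
    Rel φ (⟨U, z ≫ l, σ⟩ : PS F' Ω') ⟨U, z' ≫ l, σ⟩ := by
  let s := Spec.map (CommRingCat.ofHom r)
  let P := pullback (z ≫ s) s
  haveI : GeometricallyConnected s := geometricallyConnected_fieldExt r
  haveI : GeometricallyConnected (pullback.fst (z ≫ s) s) :=
    MorphismProperty.pullback_fst (P := @GeometricallyConnected) _ _ inferInstance
  haveI : UniversallyOpen (pullback.fst (z ≫ s) s) := universallyOpen_spec_field _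
  haveI : ConnectedSpace P := GeometricallyConnected.connectedSpace_of_subsingleton (pullback.fst (z ≫ s) s)
  have hov : ∀ {Ω₁ : Type u} [Field Ω₁] (a b : Spec (CommRingCat.of Ω₁) ⟶ Spec (CommRingCat.of Ω)), a ≫ s = b ≫ s →
      ((a ≫ l) ≫ U.hom) ≫ f = ((b ≫ l) ≫ U.hom) ≫ f := fun a b e => by
    simp only [Category.assoc] at hβ ⊢
    rw [hβ, ← Category.assoc, ← Category.assoc b]
    exact congrArg (· ≫ β) e
  obtain ⟨R, hR⟩ := exists_relLocus φ σ σ ((pullback.fst (z ≫ s) s ≫ z) ≫ l) (pullback.snd (z ≫ s) s ≫ l) (by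
    simp only [Category.assoc] at hβ ⊢
    rw [hβ]
    simp only [← Category.assoc]
    exact congrArg (· ≫ β) ((Category.assoc _ _ _).trans pullback.condition))
  have hRc : IsOpen ((R : Set P)ᶜ) := by
    refine isOpen_iff_forall_mem_open.2 fun u hu => ?_
    let Ω₂ := AlgebraicClosure (P.residueField u)
    let e : Spec (CommRingCat.of Ω₂) ⟶ P :=
      Spec.map (CommRingCat.ofHom (algebraMap (P.residueField u) _)) ≫ P.fromSpecResidueField u
    have he : e.base default = u :=
      (Scheme.Hom.comp_apply _ _ _).trans (P.fromSpecResidueField_apply u _)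
    let ι := e ≫ pullback.fst (z ≫ s) s
    let w := e ≫ pullback.snd (z ≫ s) s
    have hw : ι ≫ z ≫ s = w ≫ s := by
      show (e ≫ _) ≫ z ≫ s = (e ≫ _) ≫ s
      exact (Category.assoc _ _ _).trans ((congrArg (e ≫ ·) pullback.condition).trans (Category.assoc _ _ _).symm)
    let P₂ := pullback (w ≫ s) s
    let μ : P₂ ⟶ P := pullback.lift (pullback.fst (w ≫ s) s ≫ ι) (pullback.snd (w ≫ s) s)
      ((Category.assoc _ _ _).trans ((congrArg (_ ≫ ·) hw).trans pullback.condition))
    obtain ⟨O, hO⟩ := exists_relLocus φ σ σ ((pullback.fst (w ≫ s) s ≫ w) ≫ l) (pullback.snd (w ≫ s) s ≫ l) (by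
      simp only [Category.assoc] at hβ ⊢
      rw [hβ]
      simp only [← Category.assoc]
      exact congrArg (· ≫ β) ((Category.assoc _ _ _).trans pullback.condition))
    haveI : UniversallyOpen μ := by
      have hsq : IsPullback μ (pullback.fst (w ≫ s) s) (pullback.fst (z ≫ s) s) ι := by
        refine IsPullback.of_right (h₁₂ := pullback.snd (z ≫ s) s) ?_ (pullback.lift_fst _ _ _)
          (IsPullback.of_hasPullback (z ≫ s) s).flip
        rw [show μ ≫ pullback.snd (z ≫ s) s = pullback.snd (w ≫ s) s from pullback.lift_snd _ _ _, hw]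
        exact (IsPullback.of_hasPullback (w ≫ s) s).flip
      exact MorphismProperty.of_isPullback (P := @UniversallyOpen) hsq.flip (universallyOpen_spec_field ι)
    refine ⟨μ.base '' (O : Set P₂), ?_, μ.isOpenMap _ O.2, ?_⟩
    · rintro c ⟨o, ho, rfl⟩ hc
      obtain ⟨Ω₃, _, _, ζ₀, t₀, ht₀⟩ := exists_fiber_geomPt (U := EtCoh.top P₂) o
      obtain ⟨Ω₄, _, _, j, t, -, ht⟩ := exists_geom_lift (𝟙 P₂)
        (show Spec (CommRingCat.of Ω₃) ⟶ P₂ from t₀.left) o ht₀.symm
      have r1 := (hO Ω₄ t).2 (ht.symm ▸ ho)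
      have r2 := (hR Ω₄ (t ≫ μ)).2 (by rw [Scheme.Hom.comp_apply, ht]; exact hc)
      have ea : (t ≫ μ) ≫ (pullback.fst (z ≫ s) s ≫ z) ≫ l = (t ≫ pullback.fst (w ≫ s) s) ≫ (ι ≫ z) ≫ l := by
        simp only [μ, Category.assoc, pullback.lift_fst_assoc]
      have eb : (t ≫ μ) ≫ pullback.snd (z ≫ s) s ≫ l = t ≫ pullback.snd (w ≫ s) s ≫ l := by
        simp only [μ, Category.assoc, pullback.lift_snd_assoc]
      rw [ea, eb] at r2
      simp only [Category.assoc] at r1 r2
      have r3 := Rel.trans hφ r2 (Rel.symm hφ r1)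
      apply hu
      refine he ▸ (hR Ω₂ e).1 ?_
      rw [show e ≫ (pullback.fst (z ≫ s) s ≫ z) ≫ l = (ι ≫ z) ≫ l by simp only [ι, Category.assoc],
        show e ≫ pullback.snd (z ≫ s) s ≫ l = w ≫ l from (Category.assoc _ _ _).symm]
      refine (rel_pull_iff (φ := φ) (t ≫ pullback.fst (w ≫ s) s)
        (p := (⟨U, (ι ≫ z) ≫ l, σ⟩ : PS F' Ω₂)) (q := ⟨U, w ≫ l, σ⟩)
        (hov (ι ≫ z) w ((Category.assoc _ _ _).trans hw))).1 ?_
      simp only [PS.pull, Category.assoc]
      exact r3
    · let d : Spec (CommRingCat.of Ω₂) ⟶ P₂ := pullback.lift (𝟙 _) w (Category.id_comp _)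
      refine ⟨d.base default, (hO Ω₂ d).1 ?_, ?_⟩
      · rw [show d ≫ (pullback.fst (w ≫ s) s ≫ w) ≫ l = w ≫ l by
            simp only [d, Category.assoc, pullback.lift_fst_assoc, Category.id_comp],
          show d ≫ pullback.snd (w ≫ s) s ≫ l = w ≫ l from pullback.lift_snd_assoc _ _ _ _]
        exact rel_refl hφ _
      · refine ((Scheme.Hom.comp_apply _ _ _).symm.trans ?_).trans he
        refine congrArg (fun k : Spec (CommRingCat.of Ω₂) ⟶ P => k.base default) (pullback.hom_ext ?_ ?_)
        · simp only [μ, d, ι, Category.assoc, pullback.lift_fst, pullback.lift_fst_assoc, Category.id_comp]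
        · simp only [μ, d, w, Category.assoc, pullback.lift_snd]
  have huniv : (R : Set P) = Set.univ := by
    refine IsClopen.eq_univ ⟨⟨hRc⟩, R.2⟩ ?_
    let d : Spec (CommRingCat.of Ω') ⟶ P := pullback.lift (𝟙 _) z (Category.id_comp _)
    refine ⟨d.base default, (hR Ω' d).1 ?_⟩
    rw [show d ≫ (pullback.fst (z ≫ s) s ≫ z) ≫ l = z ≫ l by
        simp only [d, Category.assoc, pullback.lift_fst_assoc, Category.id_comp],
      show d ≫ pullback.snd (z ≫ s) s ≫ l = z ≫ l from pullback.lift_snd_assoc _ _ _ _]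
    exact rel_refl hφ _
  let d : Spec (CommRingCat.of Ω') ⟶ P := pullback.lift (𝟙 _) z' ((Category.id_comp _).trans h)
  have hd : d.base default ∈ (R : Set P) := by rw [huniv]; exact Set.mem_univ _
  have := (hR Ω' d).2 hd
  rw [show d ≫ (pullback.fst (z ≫ s) s ≫ z) ≫ l = z ≫ l by
      simp only [d, Category.assoc, pullback.lift_fst_assoc, Category.id_comp],
    show d ≫ pullback.snd (z ≫ s) s ≫ l = z' ≫ l from pullback.lift_snd_assoc _ _ _ _] at this
  exact this

include hφ in
/-- Near a geometric point the datum is compatible on the pairs over a small neighbourhood. -/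
theorem exists_index_rel [DiscreteTopology X] {Ω : Type u} [Field Ω] [IsAlgClosed Ω] {U : X'.Etale}
    (σ : F'.obj.obj (op U)) (l : Spec (CommRingCat.of Ω) ⟶ U.left) :
    ∃ (V : X.Etale) (v : Spec (CommRingCat.of Ω) ⟶ V.left), v ≫ V.hom = (l ≫ U.hom) ≫ f ∧
      ∀ (Ω' : Type u) [Field Ω'] [IsAlgClosed Ω'] (z z' : Spec (CommRingCat.of Ω') ⟶ Spec (CommRingCat.of Ω)),
        z ≫ v = z' ≫ v → Rel φ (⟨U, z ≫ l, σ⟩ : PS F' Ω') ⟨U, z' ≫ l, σ⟩ := by
  let η := (l ≫ U.hom) ≫ f
  let Q := pullback η η
  haveI : QuasiCompact η := ⟨fun O _ _ => (Set.toFinite _).isCompact⟩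
  haveI : CompactSpace Q := QuasiCompact.compactSpace_of_compactSpace (pullback.snd η η)
  obtain ⟨L, hL⟩ := exists_relLocus φ σ σ (pullback.fst η η ≫ l) (pullback.snd η η ≫ l) (by
    simp only [Category.assoc]; exact pullback.condition.trans rfl)
  let D : ∀ i : Nbhd.NI η, Q ⟶ pullback ((Nbhd.nb η).obj i).hom ((Nbhd.nb η).obj i).hom := fun i =>
    pullback.lift (pullback.fst η η ≫ (Nbhd.zb η i).left) (pullback.snd η η ≫ (Nbhd.zb η i).left) (by
      simp only [Category.assoc]
      have := Over.w (Nbhd.zb η i)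
      exact (congrArg (_ ≫ ·) this).trans (pullback.condition.trans (congrArg (_ ≫ ·) this.symm)))
  let E : Nbhd.NI η → Set Q := fun i =>
    (D i).base ⁻¹' Set.range (pullback.diagonal ((Nbhd.nb η).obj i).hom).base
  have hEclosed : ∀ i, IsClosed (E i) := fun i =>
    haveI : IsSeparated ((Nbhd.nb η).obj i).hom := by
      haveI : IsAffine ((Nbhd.nb η).obj i).left := Nbhd.isAffine_nb η i
      haveI : IsSeparated (((Nbhd.nb η).obj i).hom ≫ terminal.from X) := by
        rw [Subsingleton.elim (((Nbhd.nb η).obj i).hom ≫ terminal.from X) (terminal.from _)]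
        exact inferInstanceAs (IsSeparated (terminal.from ((Nbhd.nb η).obj i).left))
      exact IsSeparated.of_comp _ (terminal.from X)
    (pullback.diagonal ((Nbhd.nb η).obj i).hom).isClosedEmbedding.isClosed_range.preimage (D i).continuous
  have hmem : ∀ (i : Nbhd.NI η) {Ω' : Type u} [Field Ω'] (t : Spec (CommRingCat.of Ω') ⟶ Q),
      (t.base default ∈ E i ↔
        (t ≫ pullback.fst η η) ≫ (Nbhd.zb η i).left = (t ≫ pullback.snd η η) ≫ (Nbhd.zb η i).left) := by
    intro i Ω' _ t
    haveI : Etale ((Nbhd.nb η).obj i).hom := ((Nbhd.nb η).obj i).prop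
    let δ := pullback.diagonal ((Nbhd.nb η).obj i).hom
    constructor
    · rintro ⟨x, hx⟩
      have hsub : Set.range (t ≫ D i).base ⊆ Set.range δ.base := by
        rintro _ ⟨p, rfl⟩
        rw [Subsingleton.elim p default, Scheme.Hom.comp_apply]
        exact ⟨x, hx⟩
      let m := IsOpenImmersion.lift δ (t ≫ D i) hsub
      have hm : m ≫ δ = t ≫ D i := IsOpenImmersion.lift_fac _ _ _
      have e1 := congrArg (· ≫ pullback.fst _ _) hm
      have e2 := congrArg (· ≫ pullback.snd _ _) hm
      simp only [δ, D, Category.assoc, pullback.lift_fst, pullback.lift_snd, pullback.diagonal_fst,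
        pullback.diagonal_snd, Category.comp_id] at e1 e2 ⊢
      exact e1.symm.trans e2
    · intro e
      refine ⟨((t ≫ pullback.fst η η) ≫ (Nbhd.zb η i).left).base default, ?_⟩
      refine (Scheme.Hom.comp_apply _ _ _).symm.trans (Eq.trans ?_ (Scheme.Hom.comp_apply _ _ _))
      refine congrArg (fun k : Spec (CommRingCat.of Ω') ⟶ _ => k.base default) (pullback.hom_ext ?_ ?_)
      · simp only [D, Category.assoc, pullback.lift_fst, pullback.diagonal_fst, Category.comp_id]
      · simp only [D, Category.assoc, pullback.lift_snd, pullback.diagonal_snd, Category.comp_id] at e ⊢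
        exact e
  have hgeom : ∀ q : Q, ∃ (Ω' : Type u) (_ : Field Ω') (_ : IsAlgClosed Ω')
      (t : Spec (CommRingCat.of Ω') ⟶ Q), t.base default = q := fun q =>
    ⟨AlgebraicClosure (Q.residueField q), inferInstance, inferInstance,
      Spec.map (CommRingCat.ofHom (algebraMap (Q.residueField q) _)) ≫ Q.fromSpecResidueField q,
      (Scheme.Hom.comp_apply _ _ _).trans (Q.fromSpecResidueField_apply q _)⟩
  have hdir : Directed (· ⊇ ·) E := fun i j => by
    obtain ⟨k, a, b, -⟩ := IsCofilteredOrEmpty.cone_objs i j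
    have step : ∀ {m : Nbhd.NI η} (c : k ⟶ m), E k ⊆ E m := fun {m} c q hq => by
      obtain ⟨Ω', _, _, t, rfl⟩ := hgeom q
      refine (hmem m t).2 ?_
      have e := (hmem k t).1 hq
      have hz : (Nbhd.zb η k).left ≫ ((Nbhd.nb η).map c).left = (Nbhd.zb η m).left :=
        congrArg (fun z => z.left) (Nbhd.zb_map η c)
      rw [← hz]
      exact (Category.assoc _ _ _).symm.trans ((congrArg (· ≫ _) e).trans (Category.assoc _ _ _))
    exact ⟨k, step a, step b⟩
  have hinter : ((L : Set Q)ᶜ ∩ ⋂ i, E i) = ∅ := by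
    refine Set.eq_empty_of_forall_notMem fun q ⟨hqL, hqE⟩ => hqL ?_
    obtain ⟨Ω', _, _, t, rfl⟩ := hgeom q
    refine (hL Ω' t).1 ?_
    haveI := isLocalRing_etaleLocalRing η
    obtain ⟨hA, hk⟩ := isStrictlyHenselian_etaleLocalRing η
    haveI : IsLocalHom (Groth.Agent.H18Et.valueHom η).hom :=
      ⟨fun a ha => isUnit_of_valueHom_ne_zero η a ha.ne_zero⟩
    let k := IsLocalRing.ResidueField (EtBase.etaleLocalRing η)
    haveI : IsSepClosed k := hk
    let r : k →+* Ω := IsLocalRing.ResidueField.lift (Groth.Agent.H18Et.valueHom η).hom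
    let j : Spec (CommRingCat.of k) ⟶ Spec (EtBase.etaleLocalRing η) :=
      Spec.map (CommRingCat.ofHom (Ideal.Quotient.mk (IsLocalRing.maximalIdeal (EtBase.etaleLocalRing η))))
    haveI : IsClosedImmersion j := IsClosedImmersion.spec_of_surjective _ Ideal.Quotient.mk_surjective
    have hs : Spec.map (CommRingCat.ofHom r) ≫ j = Spec.map (Groth.Agent.H18Et.valueHom η) := by
      rw [← Spec.map_comp]
      rfl
    have hz : (t ≫ pullback.fst η η) ≫ Spec.map (Groth.Agent.H18Et.valueHom η) =
        (t ≫ pullback.snd η η) ≫ Spec.map (Groth.Agent.H18Et.valueHom η) := by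
      refine (Nbhd.isLimitCone η).hom_ext fun i => ?_
      have he := (hmem i t).1 (Set.mem_iInter.1 hqE i)
      simp only [Category.assoc, Nbhd.valueHom_π] at he ⊢
      exact he
    rw [← hs, ← Category.assoc, ← Category.assoc, cancel_mono] at hz
    have := rel_of_sepClosed hφ r σ l (j ≫ Nbhd.toBase η)
      (by rw [← Category.assoc, hs, Nbhd.valueHom_toBase]) (t ≫ pullback.fst η η) (t ≫ pullback.snd η η) hz
    simp only [Category.assoc] at this
    exact this
  haveI : Nonempty (Nbhd.NI η) := IsCofiltered.nonempty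
  obtain ⟨i, hi⟩ := (L.2.isClosed_compl.isCompact).elim_directed_family_closed E hEclosed hinter hdir
  refine ⟨(Nbhd.nb η).obj i, (Nbhd.zb η i).left, Over.w (Nbhd.zb η i), fun Ω' _ _ z z' e => ?_⟩
  have hzz : z ≫ η = z' ≫ η := by
    have hw := Over.w (Nbhd.zb η i)
    rw [show η = (Nbhd.zb η i).left ≫ ((Nbhd.nb η).obj i).hom from hw.symm, ← Category.assoc, ← Category.assoc]
    exact congrArg (· ≫ ((Nbhd.nb η).obj i).hom) e
  let t : Spec (CommRingCat.of Ω') ⟶ Q := pullback.lift z z' hzz
  have ht : t.base default ∈ E i := (hmem i t).2 (by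
    rw [show t ≫ pullback.fst η η = z from pullback.lift_fst _ _ _,
      show t ≫ pullback.snd η η = z' from pullback.lift_snd _ _ _]
    exact e)
  have := (hL Ω' t).2 (by
    by_contra hn
    exact Set.eq_empty_iff_forall_notMem.1 hi _ ⟨hn, ht⟩)
  rw [show t ≫ pullback.fst η η ≫ l = z ≫ l from pullback.lift_fst_assoc _ _ _ _,
    show t ≫ pullback.snd η η ≫ l = z' ≫ l from pullback.lift_snd_assoc _ _ _ _] at this
  exact this

theorem locallyQuasiFinite_of_etale {A B : Scheme.{u}} (g : A ⟶ B) [Etale g] : LocallyQuasiFinite g := by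
  rw [HasRingHomProperty.iff_appLE (P := @LocallyQuasiFinite)]
  intro W O e
  have h := HasRingHomProperty.appLE @Etale g ‹_› W O e
  algebraize [(g.appLE W.1 O.1 e).hom]
  exact (inferInstance : Algebra.QuasiFinite Γ(B, W.1) Γ(A, O.1))

theorem discreteTopology_of_etale [DiscreteTopology X] (V : X.Etale) : DiscreteTopology V.left := by
  haveI : Etale V.hom := V.prop
  let g : V.left ⟶ X := V.hom
  haveI : Etale g := V.prop
  haveI := locallyQuasiFinite_of_etale g
  have h := g.isDiscrete_preimage (s := Set.univ) (isDiscrete_univ_iff.2 inferInstance)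
  rw [Set.preimage_univ] at h
  exact isDiscrete_univ_iff.1 h

include hφ in
theorem hasLocalData_of_discrete [DiscreteTopology X] : HasLocalData φ := by
  intro Ω _ _ p
  obtain ⟨V, v, hv, hp⟩ := exists_index_rel hφ p.s p.l
  haveI := discreteTopology_of_etale V
  let O : V.left.Opens := ⟨{v.base default}, isOpen_discrete _⟩
  obtain ⟨v₁, hv₁⟩ := exists_openPt O (ptMk v hv : (Scheme.pointSmallEtale _).fiber.obj V) rfl
  haveI : Subsingleton (openObj V O).left := ⟨fun a b => Subtype.ext (a.2.trans b.2.symm)⟩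
  haveI : DiscreteTopology (openObj V O).left := Subsingleton.discreteTopology
  let h : Spec (CommRingCat.of Ω) ⟶ (openObj V O).left := v₁.left
  have hvv : h ≫ (openHom V O).left = v := congrArg (fun z => z.left) hv₁
  refine ⟨openObj V O, h, Over.w v₁, Spec (CommRingCat.of Ω), h,
    H06Desc.universallyOpen_of_discreteTopology h, ⟨fun x => ⟨default, Subsingleton.elim _ _⟩⟩,
    p.U, p.s, p.l, (Over.w v₁).symm, fun Ω' _ _ z z' e => hp Ω' z z' ?_,
    Ω, inferInstance, inferInstance, 𝟙 _, 𝟙 _, rfl, ?_⟩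
  · rw [← hvv, ← Category.assoc, ← Category.assoc, e]
  · show Rel φ (⟨p.U, 𝟙 _ ≫ p.l, p.s⟩ : PS F' Ω) ⟨p.U, 𝟙 _ ≫ p.l, p.s⟩
    exact rel_refl hφ _

include hφ in
/-- **Effective descent along a surjection onto a discrete scheme.** -/
theorem isEffective_of_discrete [DiscreteTopology X] : EtDesc.IsEffective f F' φ :=
  isEffective_of_open hφ (H06Desc.universallyOpen_of_discreteTopology f) (hasLocalData_of_discrete hφ)

end Groth.Agent.H15Site.EffDesc
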