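import Groth.Agent.H15Site.EffDesc.OpenDesc

/-!
# The locus where two pointed families are related by a descent datum
-/

set_option autoImplicit false
set_option linter.style.haveILetI false
set_option linter.unusedSectionVars false
set_option backward.isDefEq.respectTransparency false
set_option backward.isDefEq.respectTransparency.types false

universe u

open CategoryTheory CategoryTheory.Limits AlgebraicGeometry Opposite
open scoped Groth.Agent.H18Et

namespace Groth.Agent.H15Site.EffDesc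

open H15Site.SetDescent H18Et

variable {X' X : Scheme.{u}} {f : X' ⟶ X} {F' : EtDesc.Sh X'}
  (φ : (EtDesc.pullSh (pullback.fst f f)).obj F' ≅ (EtDesc.pullSh (pullback.snd f f)).obj F')

theorem exists_relLocus {Y : Scheme.{u}} {U₁ U₂ : X'.Etale} (σ : F'.obj.obj (op U₁)) (τ : F'.obj.obj (op U₂))
    (l₁ : Y ⟶ U₁.left) (l₂ : Y ⟶ U₂.left) (h : (l₁ ≫ U₁.hom) ≫ f = (l₂ ≫ U₂.hom) ≫ f) :
    ∃ L : Y.Opens, ∀ (Ω : Type u) [Field Ω] [IsSepClosed Ω] (t : Spec (CommRingCat.of Ω) ⟶ Y),
      Rel φ (⟨U₁, t ≫ l₁, σ⟩ : PS F' Ω) ⟨U₂, t ≫ l₂, τ⟩ ↔ t.base default ∈ L := by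
  let A := (EtCoh.bc (pullback.fst f f)).obj U₁
  let B := (EtCoh.bc (pullback.snd f f)).obj U₂
  let c : Y ⟶ EtDesc.X2 f := pullback.lift (l₁ ≫ U₁.hom) (l₂ ≫ U₂.hom) h
  let κ : Y ⟶ (prodEt A B).left := pullback.lift (pullback.lift l₁ c (pullback.lift_fst _ _ _).symm)
    (pullback.lift l₂ c (pullback.lift_snd _ _ _).symm)
    ((pullback.lift_snd _ _ _).trans (pullback.lift_snd _ _ _).symm)
  let S := agree ((EtDesc.pullSh (pullback.snd f f)).obj F')
    (((EtDesc.pullSh (pullback.snd f f)).obj F').obj.map (prodFst A B).op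
      (φ.hom.hom.app _ (pullSect (pullback.fst f f) F' σ)))
    (((EtDesc.pullSh (pullback.snd f f)).obj F').obj.map (prodSnd A B).op (pullSect (pullback.snd f f) F' τ))
  refine ⟨⟨κ.base ⁻¹' S, (isOpen_agree _ _ _).preimage κ.continuous⟩, fun Ω _ _ t => ?_⟩
  have h0 := rel_iff_mem_agree (φ := φ) σ τ (prodFst A B) (prodSnd A B) (t ≫ κ)
  have ea : κ ≫ (prodFst A B).left ≫ pullback.fst U₁.hom (pullback.fst f f) = l₁ :=
    (Category.assoc _ _ _).symm.trans ((congrArg (· ≫ _) (pullback.lift_fst _ _ _)).trans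
      (pullback.lift_fst _ _ _))
  have eb : κ ≫ (prodSnd A B).left ≫ pullback.fst U₂.hom (pullback.snd f f) = l₂ :=
    (Category.assoc _ _ _).symm.trans ((congrArg (· ≫ _) (pullback.lift_snd _ _ _)).trans
      (pullback.lift_fst _ _ _))
  rw [Category.assoc t κ, Category.assoc t κ, ea, eb, Scheme.Hom.comp_apply] at h0
  exact h0

end Groth.Agent.H15Site.EffDesc
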