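import Groth.Agent.H15Site.EffDesc.FibreGlue
import Mathlib.CategoryTheory.Sites.Subsheaf

/-!
# Effective descent of etale sheaves of sets along proper and integral surjections
-/

set_option autoImplicit false
set_option linter.style.haveILetI false
set_option linter.unusedSectionVars false
set_option backward.isDefEq.respectTransparency false
set_option backward.isDefEq.respectTransparency.types false

universe u

open CategoryTheory CategoryTheory.Limits AlgebraicGeometry Opposite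
open scoped Groth.Agent.H18Et

namespace Groth.Agent.H15Site.EffDesc

open H15Site.SetDescent H18Et H18PBC.Fibre

variable {X' X : Scheme.{u}} {f : X' ⟶ X} {F' : EtDesc.Sh X'}
  (φ : (EtDesc.pullSh (pullback.fst f f)).obj F' ≅ (EtDesc.pullSh (pullback.snd f f)).obj F')

/-- The sections compatible with the descent datum. -/
def Cond (V : X.Etale) (s : F'.obj.obj (op ((EtCoh.bc f).obj V))) : Prop :=
  ∀ (Ω : Type u) [Field Ω] [IsSepClosed Ω] (y y' : Spec (CommRingCat.of Ω) ⟶ ((EtCoh.bc f).obj V).left),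
    y ≫ pullback.fst V.hom f = y' ≫ pullback.fst V.hom f →
      Rel φ (⟨(EtCoh.bc f).obj V, y, s⟩ : PS F' Ω) ⟨(EtCoh.bc f).obj V, y', s⟩

theorem cond_map {V V' : X.Etale} (g : V' ⟶ V) (s : F'.obj.obj (op ((EtCoh.bc f).obj V))) (h : Cond φ V s) :
    Cond φ V' (F'.obj.map ((EtCoh.bc f).map g).op s) := by
  intro Ω _ _ y y' hy
  have key : ∀ z : Spec (CommRingCat.of Ω) ⟶ ((EtCoh.bc f).obj V').left,
      (z ≫ ((EtCoh.bc f).map g).left) ≫ pullback.fst V.hom f = (z ≫ pullback.fst V'.hom f) ≫ g.left := fun z =>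
    (Category.assoc _ _ _).trans ((congrArg (z ≫ ·) (bc_map_fst f g)).trans (Category.assoc _ _ _).symm)
  have h1 := h Ω (y ≫ ((EtCoh.bc f).map g).left) (y' ≫ ((EtCoh.bc f).map g).left)
    ((key y).trans ((congrArg (· ≫ g.left) hy).trans (key y').symm))
  exact (h1.congr_left (eqv_map ((EtCoh.bc f).map g) y s).symm).congr_right
    (eqv_map ((EtCoh.bc f).map g) y' s).symm

/-- The subpresheaf of compatible sections. -/
def subF : Subfunctor ((EtDesc.pushSh f).obj F').obj where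
  obj U := {s | Cond φ U.unop s}
  map i _ hs := cond_map φ i.unop _ hs

theorem cond_local {V : X.Etale} (s : F'.obj.obj (op ((EtCoh.bc f).obj V))) (R : Sieve V)
    (hR : R ∈ X.smallEtaleTopology V)
    (h : ∀ ⦃V' : X.Etale⦄ (g : V' ⟶ V), R.arrows g → Cond φ V' (F'.obj.map ((EtCoh.bc f).map g).op s)) :
    Cond φ V s := by
  intro Ω _ _ y y' hy
  have eY : X.smallEtaleTopology = (X.smallPretopology (P := EtCoh.etaleMP) (Q := EtCoh.etaleMP)).toGrothendieck :=
    Scheme.smallGrothendieckTopology_eq_toGrothendieck_smallPretopology X le_rfl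
  rw [eY] at hR
  obtain ⟨V', g, v, hg, -, hv⟩ := (Scheme.mem_toGrothendieck_smallPretopology V R).1 hR
    ((y ≫ pullback.fst V.hom f).base default)
  haveI := etale_left g
  obtain ⟨l, hl, -⟩ := Scheme.exists_fac_of_etale_of_isSepClosed g.left (y ≫ pullback.fst V.hom f) v hv
  have lift : ∀ z : Spec (CommRingCat.of Ω) ⟶ ((EtCoh.bc f).obj V).left,
      z ≫ pullback.fst V.hom f = y ≫ pullback.fst V.hom f →
      ∃ z' : Spec (CommRingCat.of Ω) ⟶ ((EtCoh.bc f).obj V').left,
        z' ≫ pullback.fst V'.hom f = l ∧ z' ≫ ((EtCoh.bc f).map g).left = z := by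
    intro z hz
    refine ⟨pullback.lift l (z ≫ pullback.snd V.hom f) ?_, pullback.lift_fst _ _ _, pullback.hom_ext ?_ ?_⟩
    · rw [show V'.hom = g.left ≫ V.hom from (Over.w g.hom).symm]
      refine ((Category.assoc _ _ _).symm.trans (congrArg (· ≫ V.hom) (hl.trans hz.symm))).trans ?_
      exact (Category.assoc _ _ _).trans ((congrArg (z ≫ ·) pullback.condition).trans (Category.assoc _ _ _).symm)
    · refine (Category.assoc _ _ _).trans ((congrArg (_ ≫ ·) (bc_map_fst f g)).trans ?_)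
      exact (Category.assoc _ _ _).symm.trans ((congrArg (· ≫ g.left) (pullback.lift_fst _ _ _)).trans
        (hl.trans hz.symm))
    · exact (Category.assoc _ _ _).trans ((congrArg (_ ≫ ·) (Over.w ((EtCoh.bc f).map g).hom)).trans
        (pullback.lift_snd _ _ _))
  obtain ⟨z, hzf, hz⟩ := lift y rfl
  obtain ⟨z', hzf', hz'⟩ := lift y' hy.symm
  have h1 := (h g hg Ω z z' (hzf.trans hzf'.symm))
  have h2 := (h1.congr_left (eqv_map ((EtCoh.bc f).map g) z s)).congr_right (eqv_map ((EtCoh.bc f).map g) z' s)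
  rwa [hz, hz'] at h2

theorem isSheaf_subF : Presheaf.IsSheaf X.smallEtaleTopology (subF φ).toFunctor := by
  refine (isSheaf_iff_isSheaf_of_type _ _).2 ?_
  refine ((subF φ).isSheaf_iff ((isSheaf_iff_isSheaf_of_type _ _).1 ((EtDesc.pushSh f).obj F').property)).2 ?_
  intro U s hs
  exact cond_local φ s _ hs fun V' g hg => hg

/-- The descended sheaf. -/
noncomputable def descSh : EtDesc.Sh X := ⟨(subF φ).toFunctor, isSheaf_subF φ⟩

/-- Its inclusion into the direct image. -/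
noncomputable def descι : descSh φ ⟶ (EtDesc.pushSh f).obj F' := ⟨(subF φ).ι⟩

/-- The comparison. -/
noncomputable def ψ : (EtDesc.pullSh f).obj (descSh φ) ⟶ F' :=
  ((EtDesc.adjSh f).homEquiv _ _).symm (descι φ)

theorem ψ_pullSect {V : X.Etale} (s : (descSh φ).obj.obj (op V)) :
    (ψ φ).hom.app (op ((EtCoh.bc f).obj V)) (pullSect f (descSh φ) s) = s.1 := by
  have e := ((EtDesc.adjSh f).homEquiv _ _).apply_symm_apply (descι φ)
  rw [Adjunction.homEquiv_unit] at e
  exact ConcreteCategory.congr_hom (congr_app (congrArg (fun k => k.hom) e) (op V)) s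

theorem exists_pull_germ {Z Y : Scheme.{u}} (g : Z ⟶ Y) {Ω : Type u} [Field Ω] [IsSepClosed Ω]
    (ξ : Spec (CommRingCat.of Ω) ⟶ Z) (G : EtDesc.Sh Y)
    (c : (Scheme.pointSmallEtale ξ).sheafFiber.obj ((EtDesc.pullSh g).obj G)) :
    ∃ (V : Y.Etale) (v : (Scheme.pointSmallEtale (ξ ≫ g)).fiber.obj V) (s : G.obj.obj (op V)),
      germ ξ ((EtDesc.pullSh g).obj G) _ ((fiberCompIso g ξ).inv.app V v) (pullSect g G s) = c := by
  obtain ⟨b, rfl⟩ := ((CategoryTheory.isIso_iff_bijective _).1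
    (inferInstance : IsIso ((stalkPullShIso g ξ).inv.app G))).2 c
  obtain ⟨V, v, s, rfl⟩ := germ_surjective (ξ ≫ g) G b
  exact ⟨V, v, s, germ_pullSect g G ξ v s⟩

theorem fci_map {Z Y : Scheme.{u}} (g : Z ⟶ Y) {Ω : Type u} [Field Ω] [IsSepClosed Ω]
    (ξ : Spec (CommRingCat.of Ω) ⟶ Z) {V V' : Y.Etale} (i : V ⟶ V')
    (v : (Scheme.pointSmallEtale (ξ ≫ g)).fiber.obj V) :
    (Scheme.pointSmallEtale ξ).fiber.map ((EtCoh.bc g).map i) ((fiberCompIso g ξ).inv.app V v) =
      (fiberCompIso g ξ).inv.app V' ((Scheme.pointSmallEtale (ξ ≫ g)).fiber.map i v) :=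
  bcPt_ext ((Category.assoc _ _ _).trans ((congrArg (_ ≫ ·) (bc_map_fst g i)).trans
    ((Category.assoc _ _ _).symm.trans ((congrArg (· ≫ i.left) (fci_inv_fst g ξ v)).trans
      (fci_inv_fst g ξ ((Scheme.pointSmallEtale (ξ ≫ g)).fiber.map i v)).symm))))

section Stalks

variable {Ω : Type u} [Field Ω] [IsAlgClosed Ω] (ξ : Spec (CommRingCat.of Ω) ⟶ X')

theorem ψ_germ {V : X.Etale} (v : (Scheme.pointSmallEtale (ξ ≫ f)).fiber.obj V)
    (s : (descSh φ).obj.obj (op V)) :
    (Scheme.pointSmallEtale ξ).sheafFiber.map (ψ φ)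
        (germ ξ ((EtDesc.pullSh f).obj (descSh φ)) _ ((fiberCompIso f ξ).inv.app V v) (pullSect f (descSh φ) s)) =
      germ ξ F' _ ((fiberCompIso f ξ).inv.app V v) s.1 := by
  rw [germ_naturality]
  exact congrArg (germ ξ F' _ _) (ψ_pullSect φ s)

theorem ψ_injective (hf : Good f) : Function.Injective ((Scheme.pointSmallEtale ξ).sheafFiber.map (ψ φ)) := by
  intro c d hcd
  obtain ⟨V₁, v₁, s₁, rfl⟩ := exists_pull_germ f ξ (descSh φ) c
  obtain ⟨V₂, v₂, s₂, rfl⟩ := exists_pull_germ f ξ (descSh φ) d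
  rw [ψ_germ, ψ_germ] at hcd
  obtain ⟨⟨V, v⟩, ⟨g₁, hg₁⟩, ⟨g₂, hg₂⟩, -⟩ := IsCofilteredOrEmpty.cone_objs
    (C := (Scheme.pointSmallEtale (ξ ≫ f)).fiber.Elements) ⟨V₁, v₁⟩ ⟨V₂, v₂⟩
  dsimp at g₁ g₂ hg₁ hg₂
  have step : ∀ {V' : X.Etale} (g : V ⟶ V') (v' : (Scheme.pointSmallEtale (ξ ≫ f)).fiber.obj V')
      (_ : (Scheme.pointSmallEtale (ξ ≫ f)).fiber.map g v = v') (s : (descSh φ).obj.obj (op V')),
      germ ξ F' _ ((fiberCompIso f ξ).inv.app V v) ((descSh φ).obj.map g.op s).1 =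
          germ ξ F' _ ((fiberCompIso f ξ).inv.app V' v') s.1 ∧
        germ ξ ((EtDesc.pullSh f).obj (descSh φ)) _ ((fiberCompIso f ξ).inv.app V v)
            (pullSect f (descSh φ) ((descSh φ).obj.map g.op s)) =
          germ ξ ((EtDesc.pullSh f).obj (descSh φ)) _ ((fiberCompIso f ξ).inv.app V' v')
            (pullSect f (descSh φ) s) := by
    intro V' g v' hv s
    subst hv
    refine ⟨(germ_map F' ((EtCoh.bc f).map g) _ s.1).trans
      (congrArg (fun q => germ ξ F' _ q s.1) (fci_map f ξ g v)), ?_⟩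
    rw [pullSect_map, germ_map, fci_map]
  obtain ⟨a₁, b₁⟩ := step g₁ v₁ hg₁ s₁
  obtain ⟨a₂, b₂⟩ := step g₂ v₂ hg₂ s₂
  rw [← b₁, ← b₂]
  generalize (descSh φ).obj.map g₁.op s₁ = s at a₁ b₁ ⊢
  generalize (descSh φ).obj.map g₂.op s₂ = s' at a₂ b₂ ⊢
  let y₁ := ((fiberCompIso f ξ).inv.app V v).left
  have hy₁ : y₁ ≫ pullback.fst V.hom f = v.left := fci_inv_fst f ξ v
  have e₁ : Eqv (⟨(EtCoh.bc f).obj V, y₁, s.1⟩ : PS F' Ω) ⟨(EtCoh.bc f).obj V, y₁, s'.1⟩ :=
    eqv_of_germ ξ (Over.w ((fiberCompIso f ξ).inv.app V v)) (Over.w ((fiberCompIso f ξ).inv.app V v))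
      (a₁.trans (hcd.trans a₂.symm))
  obtain ⟨V₀, i, v₀, hv₀, hO⟩ := hf.exists_shrink v (agree F' s.1 s'.1) (isOpen_agree F' _ _) fun y hy => by
    have hyy := hy₁.trans hy.symm
    have r' : Rel φ (⟨(EtCoh.bc f).obj V, y₁, s.1⟩ : PS F' Ω) ⟨(EtCoh.bc f).obj V, y, s'.1⟩ :=
      (s'.2 Ω y₁ y hyy).congr_left e₁.symm
    obtain ⟨_, hg⟩ := (s.2 Ω y₁ y hyy).eqv_right r' rfl
    exact (germ_eq_iff_mem_agree F' (ptMk y rfl) _ _).1 hg
  have heq : (descSh φ).obj.map i.op s = (descSh φ).obj.map i.op s' :=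
    Subtype.ext (eq_of_agree_eq_univ F' _ _ fun x => (mem_agree_map F' ((EtCoh.bc f).map i) _ _ x).2 (hO x))
  have hi : (Scheme.pointSmallEtale (ξ ≫ f)).fiber.map i v₀ = v := pt_ext hv₀
  have hn : ∀ r : (descSh φ).obj.obj (op V),
      germ ξ ((EtDesc.pullSh f).obj (descSh φ)) _ ((fiberCompIso f ξ).inv.app V v) (pullSect f (descSh φ) r) =
      germ ξ ((EtDesc.pullSh f).obj (descSh φ)) _ ((fiberCompIso f ξ).inv.app V₀ v₀)
        (pullSect f (descSh φ) ((descSh φ).obj.map i.op r)) := fun r => by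
    rw [pullSect_map, germ_map, fci_map, hi]
  exact (hn s).trans ((congrArg _ (congrArg _ heq)).trans (hn s').symm)

end Stalks

section Glue

variable {φ} {Ω : Type u} [Field Ω] [IsAlgClosed Ω] {η : Spec (CommRingCat.of Ω) ⟶ X}

theorem pt_over {t : Spec (CommRingCat.of Ω) ⟶ pullback f η} (ht : t ≫ pullback.snd f η = 𝟙 _) :
    (t ≫ pullback.fst f η) ≫ f = η :=
  (Category.assoc _ _ _).trans ((congrArg (t ≫ ·) pullback.condition).trans
    ((Category.assoc _ _ _).symm.trans ((congrArg (· ≫ η) ht).trans (Category.id_comp _))))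

/-- A section on `W` restricts at every rational point to the germ related to `p`. -/
def Fits (p : PS F' Ω) {W : (pullback f η).Etale}
    (r : ((EtDesc.pullSh (pullback.fst f η)).obj F').obj.obj (op W)) : Prop :=
  ∀ (t : Spec (CommRingCat.of Ω) ⟶ pullback f η) (y : Spec (CommRingCat.of Ω) ⟶ W.left) (hy : y ≫ W.hom = t),
    t ≫ pullback.snd f η = 𝟙 _ → ∀ (q : PS F' Ω) (hq : q.ξ = t ≫ pullback.fst f η), Rel φ p q →
      germ t ((EtDesc.pullSh (pullback.fst f η)).obj F') W (ptMk y hy) r =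
        germ t ((EtDesc.pullSh (pullback.fst f η)).obj F') _
          ((fiberCompIso (pullback.fst f η) t).inv.app q.U (ptMk q.l hq)) (pullSect (pullback.fst f η) F' q.s)

variable (p : PS F' Ω)

theorem Fits.map {W W' : (pullback f η).Etale} (e : W' ⟶ W)
    {r : ((EtDesc.pullSh (pullback.fst f η)).obj F').obj.obj (op W)} (h : Fits (φ := φ) p r) :
    Fits (φ := φ) p (((EtDesc.pullSh (pullback.fst f η)).obj F').obj.map e.op r) := by
  intro t y hy ht q hq hrel
  rw [germ_map]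
  refine Eq.trans ?_ (h t (y ≫ e.left) ((Category.assoc _ _ _).trans ((congrArg (y ≫ ·) (Over.w e.hom)).trans hy))
    ht q hq hrel)
  rfl

theorem Fits.unique (hf : Good f) (hp : p.ξ ≫ f = η) {W : (pullback f η).Etale}
    {r r' : ((EtDesc.pullSh (pullback.fst f η)).obj F').obj.obj (op W)} (h : Fits (φ := φ) p r)
    (h' : Fits (φ := φ) p r') : r = r' := by
  refine eq_of_agree_eq_univ _ r r' fun u => hf.mem_of_open (isOpen_agree _ r r') (fun y hy => ?_) u
  obtain ⟨q, hq, hrel⟩ := exists_rel φ p ((y ≫ W.hom) ≫ pullback.fst f η) (hp.trans (pt_over hy).symm)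
  exact (germ_eq_iff_mem_agree _ (ptMk y rfl) r r').1
    ((h _ y rfl hy q hq hrel).trans (h' _ y rfl hy q hq hrel).symm)

theorem exists_fits (hp : p.ξ ≫ f = η)
    (y : Spec (CommRingCat.of Ω) ⟶ ((EtCoh.bc (pullback.fst f η)).obj (EtCoh.top X')).left)
    (hy : (y ≫ ((EtCoh.bc (pullback.fst f η)).obj (EtCoh.top X')).hom) ≫ pullback.snd f η = 𝟙 _) :
    ∃ (W : (pullback f η).Etale) (g : W ⟶ (EtCoh.bc (pullback.fst f η)).obj (EtCoh.top X'))
      (r : ((EtDesc.pullSh (pullback.fst f η)).obj F').obj.obj (op W)),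
      y.base default ∈ Set.range g.left.base ∧ Fits (φ := φ) p r := by
  let π := pullback.fst f η
  let T := (EtCoh.bc π).obj (EtCoh.top X')
  let t := y ≫ T.hom
  obtain ⟨q, hq, hrel⟩ := exists_rel φ p (t ≫ π) (hp.trans (pt_over hy).symm)
  let A := (EtCoh.bc (pullback.fst f f)).obj p.U
  let B := (EtCoh.bc (pullback.snd f f)).obj q.U
  haveI : Etale A.hom := A.prop
  haveI : Etale B.hom := B.prop
  let W2 : (EtDesc.X2 f).Etale := MorphismProperty.Over.mk ⊤ (pullback.fst A.hom B.hom ≫ A.hom)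
    (inferInstanceAs (Etale (pullback.fst A.hom B.hom ≫ A.hom)))
  let a : W2 ⟶ A := MorphismProperty.Over.homMk (pullback.fst A.hom B.hom) rfl trivial
  let b : W2 ⟶ B := MorphismProperty.Over.homMk (pullback.snd A.hom B.hom) pullback.condition.symm trivial
  let W0 := (EtCoh.bc π).obj q.U
  let c : W0.left ⟶ EtDesc.X2 f :=
    pullback.lift ((W0.hom ≫ pullback.snd f η) ≫ p.ξ) (W0.hom ≫ π) (by
      refine ((Category.assoc _ _ _).trans (congrArg (_ ≫ ·) hp)).trans ?_
      exact (Category.assoc _ _ _).trans ((congrArg (W0.hom ≫ ·) pullback.condition.symm).trans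
        (Category.assoc _ _ _).symm))
  let ca : W0.left ⟶ A.left := pullback.lift ((W0.hom ≫ pullback.snd f η) ≫ p.l) c
    ((Category.assoc _ _ _).trans (pullback.lift_fst _ _ _).symm)
  let cb : W0.left ⟶ B.left := pullback.lift (pullback.fst q.U.hom π) c
    (pullback.condition.trans (pullback.lift_snd _ _ _).symm)
  let κ : W0.left ⟶ W2.left := pullback.lift ca cb ((pullback.lift_snd _ _ _).trans (pullback.lift_snd _ _ _).symm)
  let S := agree ((EtDesc.pullSh (pullback.snd f f)).obj F')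
    (((EtDesc.pullSh (pullback.snd f f)).obj F').obj.map a.op (φ.hom.hom.app _ (pullSect (pullback.fst f f) F' p.s)))
    (((EtDesc.pullSh (pullback.snd f f)).obj F').obj.map b.op (pullSect (pullback.snd f f) F' q.s))
  let O : W0.left.Opens := ⟨κ.base ⁻¹' S, (isOpen_agree _ _ _).preimage κ.continuous⟩
  have key : ∀ z : Spec (CommRingCat.of Ω) ⟶ W0.left, (z ≫ W0.hom) ≫ pullback.snd f η = 𝟙 _ →
      (Rel φ p (⟨q.U, z ≫ pullback.fst q.U.hom π, q.s⟩ : PS F' Ω) ↔ z.base default ∈ O) := by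
    intro z hz
    have h := rel_iff_mem_agree (φ := φ) p.s q.s a b (z ≫ κ)
    have e1 : (z ≫ κ) ≫ a.left ≫ pullback.fst p.U.hom (pullback.fst f f) = p.l := by
      refine (Category.assoc _ _ _).trans ?_
      refine (congrArg (z ≫ ·) ((Category.assoc _ _ _).symm.trans ((congrArg (· ≫ _) (pullback.lift_fst _ _ _)).trans
        (pullback.lift_fst _ _ _)))).trans ?_
      refine (Category.assoc _ _ _).symm.trans ((congrArg (· ≫ p.l) ((Category.assoc _ _ _).symm.trans hz)).trans ?_)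
      exact Category.id_comp _
    have e2 : (z ≫ κ) ≫ b.left ≫ pullback.fst q.U.hom (pullback.snd f f) = z ≫ pullback.fst q.U.hom π := by
      refine (Category.assoc _ _ _).trans (congrArg (z ≫ ·) ?_)
      exact (Category.assoc _ _ _).symm.trans ((congrArg (· ≫ _) (pullback.lift_snd _ _ _)).trans
        (pullback.lift_fst _ _ _))
    rw [e1, e2] at h
    refine h.trans ?_
    show (z ≫ κ).base default ∈ S ↔ κ.base (z.base default) ∈ S
    rw [Scheme.Hom.comp_apply]
  let y₀ : Spec (CommRingCat.of Ω) ⟶ W0.left := pullback.lift q.l t hq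
  have hy₀ : y₀ ≫ W0.hom = t := pullback.lift_snd _ _ _
  have hmem : y₀.base default ∈ O := by
    refine (key y₀ ((congrArg (· ≫ pullback.snd f η) hy₀).trans hy)).1 ?_
    refine hrel.congr_right (eqv_of_germ q.ξ rfl ?_ ?_)
    · show (y₀ ≫ pullback.fst q.U.hom π) ≫ q.U.hom = _
      rw [show y₀ ≫ pullback.fst q.U.hom π = q.l from pullback.lift_fst _ _ _]
    · exact congrArg (fun z => germ q.ξ F' q.U z q.s) (pt_ext (pullback.lift_fst _ _ _).symm)
  refine ⟨openObj W0 O, (EtCore.bcTopIsTerminal π).from _,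
    ((EtDesc.pullSh π).obj F').obj.map (openHom W0 O).op (pullSect π F' q.s), ?_, ?_⟩
  · obtain ⟨w₀, hw₀⟩ := exists_openPt O (ptMk y₀ hy₀ : (Scheme.pointSmallEtale t).fiber.obj W0) hmem
    haveI : IsIso T.hom := inferInstanceAs (IsIso (pullback.snd (𝟙 X') π))
    refine ⟨ptOf w₀, ?_⟩
    have e : w₀.left ≫ ((EtCore.bcTopIsTerminal π).from (openObj W0 O)).left = y := by
      rw [← cancel_mono T.hom]
      exact (Category.assoc _ _ _).trans ((congrArg (w₀.left ≫ ·)
        (Over.w ((EtCore.bcTopIsTerminal π).from (openObj W0 O)).hom)).trans (Over.w w₀))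
    exact (Scheme.Hom.comp_apply _ _ _).symm.trans
      (congrArg (fun k : Spec (CommRingCat.of Ω) ⟶ T.left => k.base default) e)
  · intro t' y' hy' ht' q' hq' hrel'
    rw [germ_map]
    let z : Spec (CommRingCat.of Ω) ⟶ W0.left := y' ≫ (openHom W0 O).left
    have hz : z ≫ W0.hom = t' :=
      (Category.assoc _ _ _).trans ((congrArg (y' ≫ ·) (Over.w (openHom W0 O).hom)).trans hy')
    have hzq : ((z ≫ pullback.fst q.U.hom π) ≫ q.U.hom) = t' ≫ π :=
      (Category.assoc _ _ _).trans ((congrArg (z ≫ ·) pullback.condition).trans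
        ((Category.assoc _ _ _).symm.trans (congrArg (· ≫ π) hz)))
    have hzO : z.base default ∈ O := by
      show (y' ≫ (openHom W0 O).left).base default ∈ O
      rw [Scheme.Hom.comp_apply]
      exact (y'.base default).2
    have hr := (key z ((congrArg (· ≫ pullback.snd f η) hz).trans ht')).2 hzO
    have he := hr.eqv_right hrel' (hzq.trans hq'.symm)
    refine Eq.trans (congrArg (fun k => germ t' ((EtDesc.pullSh π).obj F') W0 k (pullSect π F' q.s)) ?_)
      ((germ_pullSect_congr π t' (p := (⟨q.U, z ≫ pullback.fst q.U.hom π, q.s⟩ : PS F' Ω)) hzq hq').2 he)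
    exact bcPt_ext (fci_inv_fst π t' (ptMk (z ≫ pullback.fst q.U.hom π) hzq)).symm

theorem exists_global (hf : Good f) (hp : p.ξ ≫ f = η) :
    ∃ σ : ((EtDesc.pullSh (pullback.fst f η)).obj F').obj.obj
        (op ((EtCoh.bc (pullback.fst f η)).obj (EtCoh.top X'))),
      ∀ (t : Spec (CommRingCat.of Ω) ⟶ pullback f η)
        (y : Spec (CommRingCat.of Ω) ⟶ ((EtCoh.bc (pullback.fst f η)).obj (EtCoh.top X')).left)
        (hy : y ≫ ((EtCoh.bc (pullback.fst f η)).obj (EtCoh.top X')).hom = t),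
        t ≫ pullback.snd f η = 𝟙 _ → ∀ (q : PS F' Ω) (hq : q.ξ = t ≫ pullback.fst f η), Rel φ p q →
          germ t ((EtDesc.pullSh (pullback.fst f η)).obj F') _ (ptMk y hy) σ =
            germ t ((EtDesc.pullSh (pullback.fst f η)).obj F') _
              ((fiberCompIso (pullback.fst f η) t).inv.app q.U (ptMk q.l hq))
              (pullSect (pullback.fst f η) F' q.s) := by
  obtain ⟨σ, hσ⟩ := hf.exists_glue ((EtDesc.pullSh (pullback.fst f η)).obj F')
    ((EtCoh.bc (pullback.fst f η)).obj (EtCoh.top X')) (fun W _ r => Fits (φ := φ) p r)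
    (fun _ _ _ e _ h => h.map p e) (fun _ _ _ _ h h' => h.unique p hf hp h') (exists_fits p hp)
  refine ⟨σ, fun t y hy ht q hq hrel => ?_⟩
  subst hy
  obtain ⟨W, g, ⟨w, hw⟩, hfit⟩ := hσ y ht
  obtain ⟨z, hz⟩ := exists_fiber_lift (ξ := y ≫ ((EtCoh.bc (pullback.fst f η)).obj (EtCoh.top X')).hom) g
    (ptMk y rfl) w hw
  rw [← hz, ← germ_map]
  exact hfit _ z.left (Over.w z) ht q hq hrel

/-- There is a neighbourhood with a section taking the related values on the whole fibre. -/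
theorem exists_fibre_section (hf : Good f) (hp : p.ξ ≫ f = η) :
    ∃ (V : X.Etale) (v : (Scheme.pointSmallEtale η).fiber.obj V)
      (s : F'.obj.obj (op ((EtCoh.bc f).obj V))),
      ∀ y : Spec (CommRingCat.of Ω) ⟶ ((EtCoh.bc f).obj V).left, y ≫ pullback.fst V.hom f = v.left →
        Rel φ p (⟨(EtCoh.bc f).obj V, y, s⟩ : PS F' Ω) := by
  obtain ⟨σ, hσ⟩ := exists_global (φ := φ) p hf hp
  obtain ⟨V, v, s, hs⟩ := hf.exists_resS η F' σ
  refine ⟨V, v, s, fun y hy => ?_⟩
  let π := pullback.fst f η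
  let T := (EtCoh.bc π).obj (EtCoh.top X')
  have hyf : (y ≫ pullback.snd V.hom f) ≫ f = η :=
    (Category.assoc _ _ _).trans ((congrArg (y ≫ ·) pullback.condition.symm).trans
      ((Category.assoc _ _ _).symm.trans ((congrArg (· ≫ V.hom) hy).trans (Over.w v))))
  let t : Spec (CommRingCat.of Ω) ⟶ pullback f η :=
    pullback.lift (y ≫ pullback.snd V.hom f) (𝟙 _) (hyf.trans (Category.id_comp _).symm)
  have ht : t ≫ pullback.snd f η = 𝟙 _ := pullback.lift_snd _ _ _
  let yT : Spec (CommRingCat.of Ω) ⟶ T.left := pullback.lift (t ≫ π) t (Category.comp_id _)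
  have hyT : yT ≫ T.hom = t := pullback.lift_snd _ _ _
  have hq' : (y ≫ ((EtCoh.bc f).obj V).hom) = t ≫ π := (pullback.lift_fst _ _ _).symm
  obtain ⟨q, hq, hrel⟩ := exists_rel φ p (t ≫ π) (hp.trans (pt_over ht).symm)
  have hg := hσ t yT hyT ht q hq hrel
  rw [← hs] at hg
  unfold resS at hg
  rw [germ_map] at hg
  refine hrel.congr_right ((germ_pullSect_congr π t hq hq').1 (hg.symm.trans
    (congrArg (fun k => germ t ((EtDesc.pullSh π).obj F') _ k (pullSect π F' s)) ?_)))
  refine bcPt_ext (pullback.hom_ext ?_ ?_)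
  · refine Eq.trans ?_ (congrArg (· ≫ pullback.fst V.hom f) (fci_inv_fst π t (ptMk y hq'))).symm
    refine ((Category.assoc _ _ _).trans (Category.assoc _ _ _)).trans ?_
    refine (congrArg (yT ≫ ·) ((Category.assoc _ _ _).symm.trans (jz_fst_fst f η v))).trans ?_
    refine (Category.assoc _ _ _).symm.trans ((congrArg (· ≫ _) hyT).trans ?_)
    exact (Category.assoc _ _ _).symm.trans ((congrArg (· ≫ v.left) ht).trans ((Category.id_comp _).trans hy.symm))
  · refine Eq.trans ?_ (congrArg (· ≫ pullback.snd V.hom f) (fci_inv_fst π t (ptMk y hq'))).symm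
    refine ((Category.assoc _ _ _).trans (Category.assoc _ _ _)).trans ?_
    refine (congrArg (yT ≫ ·) ((Category.assoc _ _ _).symm.trans ((congrArg (· ≫ _) (pullback.lift_fst _ _ _)).trans
      (pullback.lift_snd _ _ _)))).trans ?_
    exact (Category.assoc _ _ _).symm.trans ((congrArg (· ≫ π) hyT).trans hq'.symm)

end Glue

variable (hφ : EtDesc.IsCocycle F' φ)

include hφ in
theorem ψ_surjective (hf : Good f) {Ω : Type u} [Field Ω] [IsAlgClosed Ω] (ξ : Spec (CommRingCat.of Ω) ⟶ X') :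
    Function.Surjective ((Scheme.pointSmallEtale ξ).sheafFiber.map (ψ φ)) := by
  intro b
  obtain ⟨U, z, σ₀, rfl⟩ := germ_surjective ξ F' b
  let p : PS F' Ω := ⟨U, z.left, σ₀⟩
  have hpξ : p.ξ = ξ := Over.w z
  obtain ⟨V, v, s, hs⟩ := exists_fibre_section (φ := φ) p hf (η := ξ ≫ f) (by rw [hpξ])
  let q₀ := pullback.fst f f ≫ f
  let a := tm (pullback.fst f f) f q₀ rfl V
  let b := tm (pullback.snd f f) f q₀ pullback.condition.symm V
  let S := agree ((EtDesc.pullSh (pullback.snd f f)).obj F')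
    (((EtDesc.pullSh (pullback.snd f f)).obj F').obj.map a.op (φ.hom.hom.app _ (pullSect (pullback.fst f f) F' s)))
    (((EtDesc.pullSh (pullback.snd f f)).obj F').obj.map b.op (pullSect (pullback.snd f f) F' s))
  obtain ⟨V₁, i, v₁, hv₁, hO⟩ := (hf.fst_comp).exists_shrink v S (isOpen_agree _ _ _) fun w hw => by
    refine (rel_iff_mem_agree (φ := φ) s s a b w).1 ?_
    have hA : ∀ (p' : pullback f f ⟶ X') (hp' : p' ≫ f = q₀),
        (w ≫ (tm p' f q₀ hp' V).left ≫ pullback.fst ((EtCoh.bc f).obj V).hom p') ≫ pullback.fst V.hom f = v.left :=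
      fun p' hp' => (Category.assoc _ _ _).trans ((congrArg (w ≫ ·) (tm_fst_fst p' f q₀ hp' V)).trans hw)
    exact Rel.trans hφ (Rel.symm hφ (hs _ (hA _ rfl))) (hs _ (hA _ pullback.condition.symm))
  have hc : Cond φ V₁ (F'.obj.map ((EtCoh.bc f).map i).op s) := by
    intro Ω' _ _ y y' hyy
    have hy : ∀ z : Spec (CommRingCat.of Ω') ⟶ ((EtCoh.bc f).obj V₁).left,
        z ≫ pullback.fst V₁.hom f ≫ V₁.hom = (z ≫ pullback.snd V₁.hom f) ≫ f := fun z =>
      (congrArg (z ≫ ·) pullback.condition).trans (Category.assoc _ _ _).symm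
    let w2 : Spec (CommRingCat.of Ω') ⟶ EtDesc.X2 f :=
      pullback.lift (y ≫ pullback.snd V₁.hom f) (y' ≫ pullback.snd V₁.hom f)
        ((hy y).symm.trans (((Category.assoc _ _ _).symm.trans ((congrArg (· ≫ V₁.hom) hyy).trans
          (Category.assoc _ _ _))).trans (hy y')))
    let w1 : Spec (CommRingCat.of Ω') ⟶ ((EtCoh.bc q₀).obj V₁).left :=
      pullback.lift (y ≫ pullback.fst V₁.hom f) w2 (by
        refine (Category.assoc _ _ _).trans ((hy y).trans ?_)
        exact ((congrArg (· ≫ f) (pullback.lift_fst _ _ _)).symm.trans (Category.assoc _ _ _)))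
    let w := w1 ≫ ((EtCoh.bc q₀).map i).left
    have hwS : w.base default ∈ S := (congrArg (· ∈ S) (Scheme.Hom.comp_apply _ _ _)).mpr (hO _)
    have h := (rel_iff_mem_agree (φ := φ) s s a b w).2 hwS
    have hA : ∀ (p' : pullback f f ⟶ X') (hp' : p' ≫ f = q₀) (z : Spec (CommRingCat.of Ω') ⟶ ((EtCoh.bc f).obj V₁).left),
        z ≫ pullback.fst V₁.hom f = y ≫ pullback.fst V₁.hom f → z ≫ pullback.snd V₁.hom f = w2 ≫ p' →
        w ≫ (tm p' f q₀ hp' V).left ≫ pullback.fst ((EtCoh.bc f).obj V).hom p' = z ≫ ((EtCoh.bc f).map i).left := by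
      intro p' hp' z hz1 hz2
      refine pullback.hom_ext ?_ ?_
      · refine (Category.assoc _ _ _).trans ((congrArg (w ≫ ·) (tm_fst_fst p' f q₀ hp' V)).trans ?_)
        refine (Category.assoc _ _ _).trans ((congrArg (w1 ≫ ·) (bc_map_fst q₀ i)).trans ?_)
        refine (Category.assoc _ _ _).symm.trans ((congrArg (· ≫ i.left) ((pullback.lift_fst _ _ _).trans hz1.symm)).trans ?_)
        exact (Category.assoc _ _ _).trans ((congrArg (z ≫ ·) (bc_map_fst f i).symm).trans (Category.assoc _ _ _).symm)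
      · refine (Category.assoc _ _ _).trans ((congrArg (w ≫ ·) ((Category.assoc _ _ _).trans
          ((congrArg (_ ≫ ·) pullback.condition).trans ((Category.assoc _ _ _).symm.trans
            (congrArg (· ≫ p') (pullback.lift_snd _ _ _)))))).trans ?_)
        refine (Category.assoc _ _ _).symm.trans ((congrArg (· ≫ p') (?_ : w ≫ pullback.snd V.hom q₀ = w2)).trans ?_)
        · exact (Category.assoc _ _ _).trans ((congrArg (w1 ≫ ·) (Over.w ((EtCoh.bc q₀).map i).hom)).trans
            (pullback.lift_snd _ _ _))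
        · exact hz2.symm.trans ((congrArg (z ≫ ·) (Over.w ((EtCoh.bc f).map i).hom)).symm.trans
            (Category.assoc _ _ _).symm)
    rw [hA _ rfl y rfl (pullback.lift_fst _ _ _).symm,
      hA _ pullback.condition.symm y' hyy.symm (pullback.lift_snd _ _ _).symm] at h
    exact (h.congr_left (eqv_map ((EtCoh.bc f).map i) y s).symm).congr_right
      (eqv_map ((EtCoh.bc f).map i) y' s).symm
  refine ⟨germ ξ ((EtDesc.pullSh f).obj (descSh φ)) _ ((fiberCompIso f ξ).inv.app V₁ v₁)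
    (pullSect f (descSh φ) (⟨_, hc⟩ : (descSh φ).obj.obj (op V₁))), ?_⟩
  rw [ψ_germ]
  let y₁ := ((fiberCompIso f ξ).inv.app V₁ v₁).left
  have hy₁ : (y₁ ≫ ((EtCoh.bc f).map i).left) ≫ pullback.fst V.hom f = v.left :=
    (Category.assoc _ _ _).trans ((congrArg (y₁ ≫ ·) (bc_map_fst f i)).trans ((Category.assoc _ _ _).symm.trans
      ((congrArg (· ≫ i.left) (fci_inv_fst f ξ v₁)).trans hv₁)))
  have hξ : y₁ ≫ ((EtCoh.bc f).obj V₁).hom = ξ := Over.w ((fiberCompIso f ξ).inv.app V₁ v₁)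
  have hξ' : (y₁ ≫ ((EtCoh.bc f).map i).left) ≫ ((EtCoh.bc f).obj V).hom = ξ :=
    (Category.assoc _ _ _).trans ((congrArg (y₁ ≫ ·) (Over.w ((EtCoh.bc f).map i).hom)).trans hξ)
  have he : Eqv (⟨(EtCoh.bc f).obj V, y₁ ≫ ((EtCoh.bc f).map i).left, s⟩ : PS F' Ω) p :=
    (hs _ hy₁).eqv_right (rel_refl hφ p) (hξ'.trans hpξ.symm)
  exact ((eqv_map ((EtCoh.bc f).map i) y₁ s).trans he).germ_eq ξ hξ hpξ

theorem hom_ext_stalk {Z : Scheme.{u}} {G G' : EtDesc.Sh Z} (α β : G ⟶ G')
    (h : ∀ (Ω : Type u) [Field Ω] [IsSepClosed Ω] (w : Spec (CommRingCat.of Ω) ⟶ Z)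
      (c : (Scheme.pointSmallEtale w).sheafFiber.obj G),
      (Scheme.pointSmallEtale w).sheafFiber.map α c = (Scheme.pointSmallEtale w).sheafFiber.map β c) : α = β := by
  refine CategoryTheory.Sheaf.hom_ext (NatTrans.ext (funext fun U => ConcreteCategory.hom_ext _ _ fun s => ?_))
  refine sect_ext (F := G') _ _ fun Ω _ _ w z => ?_
  rw [← germ_naturality, ← germ_naturality]
  exact h Ω w _

theorem canIso_comp_pullVia (G : EtDesc.Sh X) :
    (EtDesc.canIso f G).hom ≫
        (EtDesc.pullVia (pullback.snd f f) f (pullback.fst f f ≫ f) pullback.condition.symm G).hom =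
      (EtDesc.pullVia (pullback.fst f f) f (pullback.fst f f ≫ f) rfl G).hom := by
  rw [canIso_hom, Category.assoc]
  exact (congrArg (_ ≫ ·) (Iso.inv_hom_id _)).trans (Category.comp_id _)

/-- The canonical datum on germs. -/
theorem stalk_canIso {Ω : Type u} [Field Ω] [IsSepClosed Ω] (G : EtDesc.Sh X)
    (w : Spec (CommRingCat.of Ω) ⟶ EtDesc.X2 f) {V : X.Etale} (s : G.obj.obj (op V))
    (z₁ : (Scheme.pointSmallEtale (w ≫ pullback.fst f f)).fiber.obj ((EtCoh.bc f).obj V))
    (z₂ : (Scheme.pointSmallEtale (w ≫ pullback.snd f f)).fiber.obj ((EtCoh.bc f).obj V))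
    (h : z₁.left ≫ pullback.fst V.hom f = z₂.left ≫ pullback.fst V.hom f) :
    (Scheme.pointSmallEtale w).sheafFiber.map (EtDesc.canIso f G).hom
      (germ w ((EtDesc.pullSh (pullback.fst f f)).obj ((EtDesc.pullSh f).obj G)) _
        ((fiberCompIso (pullback.fst f f) w).inv.app _ z₁)
        (pullSect (pullback.fst f f) _ (pullSect f G s))) =
      germ w ((EtDesc.pullSh (pullback.snd f f)).obj ((EtDesc.pullSh f).obj G)) _
        ((fiberCompIso (pullback.snd f f) w).inv.app _ z₂)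
        (pullSect (pullback.snd f f) _ (pullSect f G s)) := by
  have hv0 : (z₁.left ≫ pullback.fst V.hom f) ≫ V.hom = w ≫ pullback.fst f f ≫ f :=
    (Category.assoc _ _ _).trans ((congrArg (z₁.left ≫ ·) pullback.condition).trans
      ((Category.assoc _ _ _).symm.trans ((congrArg (· ≫ f) (Over.w z₁)).trans (Category.assoc _ _ _))))
  let y := (fiberCompIso (pullback.fst f f ≫ f) w).inv.app V (ptMk _ hv0)
  have e₁ := stalk_pullVia (pullback.fst f f) f (pullback.fst f f ≫ f) rfl G s w z₁ y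
    (fci_inv_fst (pullback.fst f f ≫ f) w (ptMk _ hv0)).symm
  have e₂ := stalk_pullVia (pullback.snd f f) f (pullback.fst f f ≫ f) pullback.condition.symm G s w z₂ y
    (h.symm.trans (fci_inv_fst (pullback.fst f f ≫ f) w (ptMk _ hv0)).symm)
  refine ((CategoryTheory.isIso_iff_bijective _).1 (inferInstance : IsIso ((Scheme.pointSmallEtale w).sheafFiber.map
    (EtDesc.pullVia (pullback.snd f f) f (pullback.fst f f ≫ f) pullback.condition.symm G).hom))).1 ?_
  refine Eq.trans ?_ e₂.symm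
  refine Eq.trans ?_ e₁
  rw [← Functor.map_comp_apply, canIso_comp_pullVia]

/-- A morphism of pulled back sheaves on germs of pulled back sections. -/
theorem stalk_map_pullSect {T S : Scheme.{u}} (g : T ⟶ S) {Ω : Type u} [Field Ω] [IsSepClosed Ω]
    (w : Spec (CommRingCat.of Ω) ⟶ T) {A B : EtDesc.Sh S} (α : A ⟶ B) {U : S.Etale}
    (z : (Scheme.pointSmallEtale w).fiber.obj ((EtCoh.bc g).obj U)) (a : A.obj.obj (op U))
    (b : B.obj.obj (op U)) (h : α.hom.app (op U) a = b) :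
    (Scheme.pointSmallEtale w).sheafFiber.map ((EtDesc.pullSh g).map α)
        (germ w ((EtDesc.pullSh g).obj A) _ z (pullSect g A a)) =
      germ w ((EtDesc.pullSh g).obj B) _ z (pullSect g B b) := by
  rw [germ_naturality, pullSect_naturality, h]

theorem canIso_ψ :
    (EtDesc.canIso f (descSh φ)).hom ≫ (EtDesc.pullSh (pullback.snd f f)).map (ψ φ) =
      (EtDesc.pullSh (pullback.fst f f)).map (ψ φ) ≫ φ.hom := by
  refine hom_ext_stalk _ _ fun Ω _ _ w c => ?_
  obtain ⟨V₁, z₁', s₁, rfl⟩ := exists_pull_germ (pullback.fst f f) w ((EtDesc.pullSh f).obj (descSh φ)) c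
  obtain ⟨V, v, s, hs⟩ := exists_pull_germ f (w ≫ pullback.fst f f) (descSh φ)
    (germ (w ≫ pullback.fst f f) ((EtDesc.pullSh f).obj (descSh φ)) V₁ z₁' s₁)
  rw [germ_pullSect, ← hs, ← germ_pullSect]
  let z₁ := (fiberCompIso f (w ≫ pullback.fst f f)).inv.app V v
  have hv : v.left ≫ V.hom = (w ≫ pullback.snd f f) ≫ f :=
    (Over.w v).trans ((Category.assoc _ _ _).trans ((congrArg (w ≫ ·) pullback.condition).trans
      (Category.assoc _ _ _).symm))
  let z₂ := (fiberCompIso f (w ≫ pullback.snd f f)).inv.app V (ptMk v.left hv)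
  have hzz : z₁.left ≫ pullback.fst V.hom f = z₂.left ≫ pullback.fst V.hom f :=
    (fci_inv_fst f _ v).trans (fci_inv_fst f _ (ptMk v.left hv)).symm
  rw [Functor.map_comp_apply, Functor.map_comp_apply, stalk_canIso (descSh φ) w s z₁ z₂ hzz,
    stalk_map_pullSect (pullback.snd f f) w (ψ φ) _ _ _ (ψ_pullSect φ s),
    stalk_map_pullSect (pullback.fst f f) w (ψ φ) _ _ _ (ψ_pullSect φ s)]
  exact ((s.2 Ω z₁.left z₂.left hzz).at w (Over.w z₁) (Over.w z₂)).symm

include hφ in
/-- **Effective descent of sheaves of sets along proper or integral surjections.** -/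
theorem isEffective_of_good (hf : Good f) : EtDesc.IsEffective f F' φ := by
  haveI : IsIso (ψ φ) := H18Et.isIso_of_stalkSh _ fun x' => by
    obtain ⟨Ω, _, _, ξ, hξ⟩ : ∃ (Ω : Type u) (_ : Field Ω) (_ : IsAlgClosed Ω)
        (ξ : Spec (CommRingCat.of Ω) ⟶ X'), ξ.base default = x' :=
      ⟨AlgebraicClosure (X'.residueField x'), inferInstance, inferInstance,
        Spec.map (CommRingCat.ofHom (algebraMap (X'.residueField x') _)) ≫ X'.fromSpecResidueField x',
        (Scheme.Hom.comp_apply _ _ _).trans (X'.fromSpecResidueField_apply x' _)⟩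
    exact ⟨Ω, inferInstance, inferInstance, ξ, hξ, ψ_injective φ ξ hf, ψ_surjective φ hφ hf ξ⟩
  refine ⟨descSh φ, asIso (ψ φ), Iso.ext ?_⟩
  show ((EtDesc.pullSh (pullback.fst f f)).mapIso (asIso (ψ φ))).inv ≫ (EtDesc.canIso f (descSh φ)).hom ≫
    (EtDesc.pullSh (pullback.snd f f)).map (ψ φ) = φ.hom
  rw [Iso.inv_comp_eq]
  exact canIso_ψ φ

end Groth.Agent.H15Site.EffDesc
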