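import Groth.Agent.H18PBC.StalkH0
import Groth.Agent.H18Et.FibrePoints

/-!
# Geometric fibres of proper and of integral morphisms

Sections of a sheaf of sets on a geometric fibre come from etale neighbourhoods, and the rational points are
very dense in the fibre.
-/

set_option autoImplicit false
set_option linter.style.haveILetI false
set_option linter.unusedSectionVars false
set_option backward.isDefEq.respectTransparency false
set_option backward.isDefEq.respectTransparency.types false

universe u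

open CategoryTheory CategoryTheory.Limits AlgebraicGeometry Opposite
open scoped Groth.Agent.H18Et

namespace Groth.Agent.H15Site.EffDesc

open H15Site.SetDescent H18Et H18PBC H18PBC.Fibre LimSec

/-- Proper or integral. -/
def Good {X Y : Scheme.{u}} (f : X ⟶ Y) : Prop := IsProper f ∨ IsIntegralHom f

section Good

variable {X Y : Scheme.{u}} {f : X ⟶ Y}

theorem Good.universallyClosed (hf : Good f) : UniversallyClosed f := by
  rcases hf with h | h <;> infer_instance

theorem Good.quasiCompact (hf : Good f) : QuasiCompact f := by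
  rcases hf with h | h <;> infer_instance

theorem Good.isSeparated (hf : Good f) : IsSeparated f := by
  rcases hf with h | h <;> infer_instance

theorem Good.of_isPullback {X' Y' : Scheme.{u}} {f' : X' ⟶ Y'} {g' : X' ⟶ X} {g : Y' ⟶ Y} (hf : Good f)
    (h : IsPullback g' f' f g) : Good f' := by
  rcases hf with h' | h'
  · exact Or.inl (MorphismProperty.of_isPullback (P := @IsProper) h h')
  · exact Or.inr (MorphismProperty.of_isPullback (P := @IsIntegralHom) h h')

theorem Good.fst_comp (hf : Good f) : Good (pullback.fst f f ≫ f) := by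
  rcases hf with h | h
  · haveI := h
    exact Or.inl inferInstance
  · haveI := h
    exact Or.inr inferInstance

variable {Ω : Type u} [Field Ω] [IsAlgClosed Ω] {η : Spec (CommRingCat.of Ω) ⟶ Y}

/-- Every nonempty closed subset of a geometric fibre contains a rational point. -/
theorem Good.exists_pt (hf : Good f) (Z : Set ↥(pullback f η)) (hZ : IsClosed Z) (hne : Z.Nonempty) :
    ∃ ξ : Pts f η, qOf ξ ∈ Z := by
  rcases hf with h | h
  · haveI := h
    haveI : JacobsonSpace ↥(pullback f η) := LocallyOfFiniteType.jacobsonSpace (pullback.snd f η)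
    obtain ⟨x, hx, hxc⟩ := nonempty_inter_closedPoints hne hZ.isLocallyClosed
    obtain ⟨⟨l, hl⟩, hlx⟩ := (pointEquivClosedPoint (pullback.snd f η)).surjective ⟨x, hxc⟩
    have hξ : (l ≫ pullback.fst f η) ≫ f = η :=
      (Category.assoc _ _ _).trans ((congrArg (l ≫ ·) pullback.condition).trans
        ((Category.assoc _ _ _).symm.trans ((congrArg (· ≫ η) hl).trans (Category.id_comp _))))
    refine ⟨⟨_, hξ⟩, ?_⟩
    have hs : secPt (f := f) (η := η) ⟨_, hξ⟩ = l :=
      pullback.hom_ext (pullback.lift_fst _ _ _) ((pullback.lift_snd _ _ _).trans hl.symm)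
    have hlx' : l.base default = x := by
      refine Eq.trans ?_ (congrArg Subtype.val hlx)
      exact congrArg l.base (Subsingleton.elim _ _)
    show (secPt (f := f) (η := η) ⟨_, hξ⟩).base default ∈ Z
    rw [hs, hlx']
    exact hx
  · haveI := h
    obtain ⟨x, hx⟩ := hne
    obtain ⟨ξ, rfl⟩ := surjective_qOf (f := f) (η := η) x
    exact ⟨ξ, hx⟩

/-- An open subset of a geometric fibre containing all rational points is everything. -/
theorem Good.eq_univ (hf : Good f) {O : Set ↥(pullback f η)} (hO : IsOpen O) (h : ∀ ξ : Pts f η, qOf ξ ∈ O) :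
    O = Set.univ := by
  by_contra hne
  obtain ⟨ξ, hξ⟩ := hf.exists_pt Oᶜ hO.isClosed_compl (Set.nonempty_compl.2 hne)
  exact hξ (h ξ)

end Good

section Integral

theorem cp_fst_integral {A : Type u} [CommRing A] (I : Ideal A) [HenselianRing A I] {X : Scheme.{u}}
    (f : X ⟶ Spec (CommRingCat.of A)) [IsIntegralHom f] :
    CP (pullback.fst f (Spec.map (CommRingCat.ofHom (Ideal.Quotient.mk I)))) := fun Y π hπ hY => by
  haveI := hπ
  haveI : IsAffine Y := isAffine_of_isAffineHom (π ≫ f)
  have h : ConnectedSpace ↥((π ≫ f) ⁻¹' PrimeSpectrum.zeroLocus (I : Set A)) :=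
    (H9Hens.ProperPairApps.connectedSpace_iff continuous_subtype_val
      (H9Hens.ProperPair.uniqueLift_integral I (π ≫ f))).1 hY
  rw [H9Hens.ProperPairApps.range_fst_quotient I f]
  exact isConnected_iff_connectedSpace.2 h

variable {X Y : Scheme.{u}} {Ω : Type u} [Field Ω] [IsSepClosed Ω] (f : X ⟶ Y) [IsIntegralHom f]
  (ξ : Spec (CommRingCat.of Ω) ⟶ Y)

/-- The map from the geometric fibre to `X` over the strictly henselian local scheme. -/
noncomputable abbrev tI : pullback f ξ ⟶ XA f ξ :=
  pullback.lift (pullback.snd f ξ ≫ Spec.map (Groth.Agent.H18Et.valueHom ξ)) (pullback.fst f ξ)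
    (by rw [Category.assoc, Nbhd.valueHom_toBase, pullback.condition])

theorem tI_snd : tI f ξ ≫ pullback.snd (Nbhd.toBase ξ) f = pullback.fst f ξ := pullback.lift_snd _ _ _

theorem bijective_pullSect_fibre_integral (G : EtDesc.Sh (XA f ξ)) :
    Function.Bijective (pullSect (tI f ξ) G (U := EtCoh.top (XA f ξ))) := by
  haveI := isLocalRing_etaleLocalRing ξ
  obtain ⟨hA, hk⟩ := isStrictlyHenselian_etaleLocalRing ξ
  let A := EtBase.etaleLocalRing ξ
  let I := IsLocalRing.maximalIdeal A
  haveI : HenselianRing A I := inferInstance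
  haveI : IsLocalHom (Groth.Agent.H18Et.valueHom ξ).hom :=
    ⟨fun r hr => isUnit_of_valueHom_ne_zero ξ r hr.ne_zero⟩
  let k := IsLocalRing.ResidueField A
  haveI : IsSepClosed k := hk
  let r : k →+* Ω := IsLocalRing.ResidueField.lift (Groth.Agent.H18Et.valueHom ξ).hom
  let p := pullback.fst (Nbhd.toBase ξ) f
  haveI : CompactSpace (XA f ξ) := QuasiCompact.compactSpace_of_compactSpace p
  haveI : QuasiSeparatedSpace (XA f ξ) := quasiSeparatedSpace_of_quasiSeparated p
  let q : Spec (CommRingCat.of k) ⟶ Spec A := Spec.map (CommRingCat.ofHom (Ideal.Quotient.mk I))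
  haveI : IsClosedImmersion q := IsClosedImmersion.spec_of_surjective _ Ideal.Quotient.mk_surjective
  let i := pullback.fst p q
  have hi : Function.Bijective (pullSect i G (U := EtCoh.top (XA f ξ))) :=
    bijective_pullSect (cp_fst_integral I p) G
  let s : Spec (CommRingCat.of Ω) ⟶ Spec (CommRingCat.of k) := Spec.map (CommRingCat.ofHom r)
  have hs : s ≫ q = Spec.map (Groth.Agent.H18Et.valueHom ξ) := by
    rw [← Spec.map_comp]
    rfl
  have ht : IsPullback (tI f ξ) (pullback.snd f ξ) p (s ≫ q) := hs.symm ▸ isPullback_fibre f ξ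
  let l : pullback f ξ ⟶ pullback p q := pullback.lift (tI f ξ) (pullback.snd f ξ ≫ s)
    (ht.w.trans (Category.assoc _ _ _).symm)
  have hl : IsPullback l (pullback.snd f ξ) (pullback.snd p q) s :=
    IsPullback.of_right (by rw [pullback.lift_fst]; exact ht) (pullback.lift_snd _ _ _)
      (IsPullback.of_hasPullback p q)
  haveI := geometricallyConnected_fieldExt r
  haveI := flat_fieldExt r
  haveI := surjective_fieldExt r
  haveI : GeometricallyConnected l := MorphismProperty.of_isPullback (P := @GeometricallyConnected) hl.flip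
    (inferInstance : GeometricallyConnected s)
  haveI : Flat l := MorphismProperty.of_isPullback (P := @Flat) hl.flip (inferInstance : Flat s)
  haveI : Surjective l := MorphismProperty.of_isPullback (P := @Surjective) hl.flip (inferInstance : Surjective s)
  haveI : QuasiCompact l := MorphismProperty.of_isPullback (P := @QuasiCompact) hl.flip (inferInstance : QuasiCompact s)
  exact bijective_pullSect_comp l i (tI f ξ) (pullback.lift_fst _ _ _) G hi
    (bijective_pullSect_geomConn l _ (isUnivSubmersive_of_flat l))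

theorem tI_piX (i : Nbhd.NI ξ) :
    tI f ξ ≫ prj (coneX f ξ) i = pullback.lift (pullback.snd f ξ ≫ (Nbhd.zb ξ i).left) (pullback.fst f ξ)
      ((Category.assoc _ _ _).trans ((congrArg (_ ≫ ·) (Over.w (Nbhd.zb ξ i))).trans pullback.condition.symm)) := by
  refine pullback.hom_ext ?_ ?_
  · refine (Category.assoc _ _ _).trans ((congrArg (_ ≫ ·) (pullback.lift_fst _ _ _)).trans ?_)
    refine (Category.assoc _ _ _).symm.trans ((congrArg (· ≫ (Nbhd.cone ξ).π.app i) (pullback.lift_fst _ _ _)).trans ?_)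
    refine (Category.assoc _ _ _).trans ((congrArg (_ ≫ ·) (Nbhd.valueHom_π ξ i)).trans ?_)
    exact (pullback.lift_fst _ _ _).symm
  · refine (Category.assoc _ _ _).trans ((congrArg (_ ≫ ·) (coneX_hom f ξ i)).trans ?_)
    exact (tI_snd f ξ).trans (pullback.lift_snd _ _ _).symm

theorem transfer_phi_integral (G : EtDesc.Sh X) (i : Nbhd.NI ξ) (s : G.obj.obj (op ((TX f ξ).obj i))) :
    transfer (tI f ξ) (pullback.snd (Nbhd.toBase ξ) f) (pullback.fst f ξ) (tI_snd f ξ) G (EtCoh.top X)
        (phi (coneX f ξ) (pullback.snd (Nbhd.toBase ξ) f) (coneX_hom f ξ) G i s) =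
      resS f ξ G (Nbhd.zb ξ i) s := by
  refine (transfer_map_compat (tI f ξ) _ _ (tI_snd f ξ) G
    (iT (coneX f ξ) (pullback.snd (Nbhd.toBase ξ) f) (coneX_hom f ξ) i) (jz f ξ (Nbhd.zb ξ i)) ?_ _).trans
    (congrArg _ (transfer_pullSect (tI f ξ) (pullback.snd (Nbhd.toBase ξ) f) (pullback.fst f ξ) (tI_snd f ξ) G s))
  refine compat_of_graph (tI f ξ) _ _ (tI_snd f ξ) _ _ (prj (coneX f ξ) i)
    (pullback.lift (pullback.snd f ξ ≫ (Nbhd.zb ξ i).left) (pullback.fst f ξ)
      ((Category.assoc _ _ _).trans ((congrArg (_ ≫ ·) (Over.w (Nbhd.zb ξ i))).trans pullback.condition.symm)))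
    (pullback.lift_fst _ _ _) ?_ ?_
  · refine (pullback.lift_fst _ _ _).trans (pullback.hom_ext ?_ ?_)
    · exact (pullback.lift_fst _ _ _).trans ((congrArg (_ ≫ ·) (pullback.lift_fst _ _ _)).symm.trans
        (Category.assoc _ _ _).symm)
    · exact (pullback.lift_snd _ _ _).trans ((congrArg (_ ≫ ·) (pullback.lift_snd _ _ _)).symm.trans
        (Category.assoc _ _ _).symm)
  · exact tI_piX f ξ i

theorem instances_TX_integral : (∀ ⦃a b : Nbhd.NI ξ⦄ (g : a ⟶ b), IsAffineHom ((sch (TX f ξ)).map g)) ∧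
    (∀ a, CompactSpace ((sch (TX f ξ)).obj a)) ∧ (∀ a, QuasiSeparatedSpace ((sch (TX f ξ)).obj a)) := by
  refine ⟨fun a b g => ?_, fun a => ?_, fun a => ?_⟩
  · haveI : IsAffineHom ((Nbhd.nb ξ).map g).left := isAffineHom_of_isAffine _
    exact MorphismProperty.of_isPullback (P := @IsAffineHom) (EtCoh.isPullback_bc_map f ((Nbhd.nb ξ).map g)).flip
      inferInstance
  · haveI : CompactSpace ↥((𝟭 Scheme.{u}).obj ((Nbhd.nb ξ).obj a).left) :=
      inferInstanceAs (CompactSpace ((Nbhd.nb ξ).obj a).left)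
    show CompactSpace (pullback ((Nbhd.nb ξ).obj a).hom f : Scheme.{u})
    exact QuasiCompact.compactSpace_of_compactSpace (pullback.fst ((Nbhd.nb ξ).obj a).hom f)
  · haveI : QuasiSeparatedSpace ↥((𝟭 Scheme.{u}).obj ((Nbhd.nb ξ).obj a).left) :=
      inferInstanceAs (QuasiSeparatedSpace ((Nbhd.nb ξ).obj a).left)
    show QuasiSeparatedSpace (pullback ((Nbhd.nb ξ).obj a).hom f : Scheme.{u})
    exact quasiSeparatedSpace_of_quasiSeparated (pullback.fst ((Nbhd.nb ξ).obj a).hom f)

theorem resS_surjective_integral (G : EtDesc.Sh X)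
    (σ : ((EtDesc.pullSh (pullback.fst f ξ)).obj G).obj.obj
      (op ((EtCoh.bc (pullback.fst f ξ)).obj (EtCoh.top X)))) :
    ∃ (i : Nbhd.NI ξ) (s : G.obj.obj (op ((TX f ξ).obj i))), resS f ξ G (Nbhd.zb ξ i) s = σ := by
  obtain ⟨h1, h2, h3⟩ := instances_TX_integral f ξ
  haveI := h1; haveI := h2; haveI := h3
  have hT := bijective_transfer (tI f ξ) (pullback.snd (Nbhd.toBase ξ) f) (pullback.fst f ξ) (tI_snd f ξ) G
    (bijective_pullSect_fibre_integral f ξ _)
  obtain ⟨hs, -⟩ := phi_bijective (coneX f ξ) (pullback.snd (Nbhd.toBase ξ) f) (coneX_hom f ξ) G (isLimitConeX f ξ)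
  obtain ⟨x, rfl⟩ := hT.2 σ
  obtain ⟨i, s, rfl⟩ := hs x
  exact ⟨i, s, (transfer_phi_integral f ξ G i s).symm⟩

end Integral

/-- Every section on a geometric fibre comes from a neighbourhood. -/
theorem Good.exists_resS {X Y : Scheme.{u}} {f : X ⟶ Y} (hf : Good f) {Ω : Type u} [Field Ω] [IsSepClosed Ω]
    (ξ : Spec (CommRingCat.of Ω) ⟶ Y) (G : EtDesc.Sh X)
    (σ : ((EtDesc.pullSh (pullback.fst f ξ)).obj G).obj.obj
      (op ((EtCoh.bc (pullback.fst f ξ)).obj (EtCoh.top X)))) :
    ∃ (V : Y.Etale) (z : (Scheme.pointSmallEtale ξ).fiber.obj V) (s : G.obj.obj (op ((EtCoh.bc f).obj V))),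
      resS f ξ G z s = σ := by
  rcases hf with h | h
  · haveI := h
    obtain ⟨i, s, e⟩ := (resS_bijective f ξ G).1 σ
    exact ⟨_, _, s, e⟩
  · haveI := h
    obtain ⟨i, s, e⟩ := resS_surjective_integral f ξ G σ
    exact ⟨_, _, s, e⟩

end Groth.Agent.H15Site.EffDesc
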