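import Groth.Agent.H15Site.SetDescent.Subsheaf
import Groth.Agent.H15Site.SetDescent.Apps

/-!
# Descent data of sheaves of sets on geometric points

A descent datum for `f : X' ⟶ X` is a relation between pointed sections of `F'` lying over the same
geometric point of `X`; the cocycle condition makes it an equivalence relation with unique solutions.
-/

set_option autoImplicit false
set_option linter.style.haveILetI false
set_option linter.unusedSectionVars false
set_option backward.isDefEq.respectTransparency false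
set_option backward.isDefEq.respectTransparency.types false

universe u

open CategoryTheory CategoryTheory.Limits AlgebraicGeometry Opposite
open scoped Groth.Agent.H18Et

namespace Groth.Agent.H15Site.EffDesc

open H15Site.SetDescent H18Et

section Basic

variable {T S : Scheme.{u}} {Ω : Type u} [Field Ω] [IsSepClosed Ω]

/-- A point of the fibre from a lift of the geometric point. -/
noncomputable abbrev ptMk {ξ : Spec (CommRingCat.of Ω) ⟶ T} {U : T.Etale} (l : Spec (CommRingCat.of Ω) ⟶ U.left)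
    (h : l ≫ U.hom = ξ) : (Scheme.pointSmallEtale ξ).fiber.obj U :=
  Over.homMk l h

theorem pt_ext {ξ : Spec (CommRingCat.of Ω) ⟶ T} {U : T.Etale}
    {z z' : (Scheme.pointSmallEtale ξ).fiber.obj U} (h : z.left = z'.left) : z = z' :=
  Over.OverMorphism.ext h

theorem fci_inv_fst (g : T ⟶ S) (t : Spec (CommRingCat.of Ω) ⟶ T) {U : S.Etale}
    (z : (Scheme.pointSmallEtale (t ≫ g)).fiber.obj U) :
    ((fiberCompIso g t).inv.app U z).left ≫ pullback.fst U.hom g = z.left :=
  fiberCompIso_inv_left g t U z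

theorem bcPt_ext {g : T ⟶ S} {t : Spec (CommRingCat.of Ω) ⟶ T} {U : S.Etale}
    {y y' : (Scheme.pointSmallEtale t).fiber.obj ((EtCoh.bc g).obj U)}
    (h : y.left ≫ pullback.fst U.hom g = y'.left ≫ pullback.fst U.hom g) : y = y' :=
  pt_ext (pullback.hom_ext h ((Over.w y).trans (Over.w y').symm))

theorem map_iso_inv_comp {C : Type*} [Category C] (Fn : C ⥤ Type (u + 1)) {A B B' D : C} (e : A ≅ B)
    (m : A ⟶ B') (k : B' ⟶ D) (x : Fn.obj A) :
    Fn.map (e.inv ≫ m ≫ k) (Fn.map e.hom x) = Fn.map k (Fn.map m x) := by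
  rw [← Functor.map_comp_apply, e.hom_inv_id_assoc, Functor.map_comp_apply]

end Basic

section Via

variable {T S X : Scheme.{u}} {Ω : Type u} [Field Ω] [IsSepClosed Ω] (g : T ⟶ S) (a : S ⟶ X) (b : T ⟶ X)
  (w : g ≫ a = b) (G : EtDesc.Sh X)

/-- The germ of a pulled back section under `g^* a^* ≅ b^*`. -/
theorem stalk_pullVia {U : X.Etale} (s : G.obj.obj (op U)) (t : Spec (CommRingCat.of Ω) ⟶ T)
    (z : (Scheme.pointSmallEtale (t ≫ g)).fiber.obj ((EtCoh.bc a).obj U))
    (y : (Scheme.pointSmallEtale t).fiber.obj ((EtCoh.bc b).obj U))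
    (h : z.left ≫ pullback.fst U.hom a = y.left ≫ pullback.fst U.hom b) :
    (Scheme.pointSmallEtale t).sheafFiber.map (EtDesc.pullVia g a b w G).hom
        (germ t ((EtDesc.pullSh g).obj ((EtDesc.pullSh a).obj G)) _ ((fiberCompIso g t).inv.app ((EtCoh.bc a).obj U) z)
          (pullSect g ((EtDesc.pullSh a).obj G) (pullSect a G s))) =
      germ t ((EtDesc.pullSh b).obj G) _ y (pullSect b G s) := by
  have hy : (Scheme.pointSmallEtale t).fiber.map (tm g a b w U) y =
      (fiberCompIso g t).inv.app ((EtCoh.bc a).obj U) z := by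
    refine bcPt_ext (pullback.hom_ext ?_ ?_)
    · refine ((Category.assoc _ _ _).trans (Category.assoc _ _ _)).trans ?_
      refine (congrArg (y.left ≫ ·) ((Category.assoc _ _ _).symm.trans (tm_fst_fst g a b w U))).trans ?_
      exact h.symm.trans (congrArg (· ≫ pullback.fst U.hom a) (fci_inv_fst g t z)).symm
    · have hz : ∀ (q : (Scheme.pointSmallEtale t).fiber.obj ((EtCoh.bc g).obj ((EtCoh.bc a).obj U))),
          (q.left ≫ pullback.fst ((EtCoh.bc a).obj U).hom g) ≫ pullback.snd U.hom a = t ≫ g := fun q =>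
        (Category.assoc _ _ _).trans ((congrArg (q.left ≫ ·)
          (pullback.condition (f := ((EtCoh.bc a).obj U).hom) (g := g))).trans
          ((Category.assoc _ _ _).symm.trans (congrArg (· ≫ g) (Over.w q))))
      exact (hz _).trans (hz _).symm
  rw [germ_naturality, ← hy, ← germ_map]
  exact congrArg (germ t ((EtDesc.pullSh b).obj G) _ y) (transfer_pullSect g a b w G s)

end Via

variable {X' X : Scheme.{u}} (f : X' ⟶ X) {F' : EtDesc.Sh X'}

variable (F') in
/-- A section near a geometric point. -/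
structure PS (Ω : Type u) [Field Ω] where
  /-- the neighbourhood -/
  U : X'.Etale
  /-- the point -/
  l : Spec (CommRingCat.of Ω) ⟶ U.left
  /-- the section -/
  s : F'.obj.obj (op U)

variable {Ω : Type u} [Field Ω] [IsSepClosed Ω]

/-- The geometric point of `X'`. -/
noncomputable abbrev PS.ξ (p : PS F' Ω) : Spec (CommRingCat.of Ω) ⟶ X' := p.l ≫ p.U.hom

/-- Equality of germs. -/
def Eqv (p q : PS F' Ω) : Prop :=
  ∃ h : p.ξ = q.ξ, germ p.ξ F' p.U (ptMk p.l rfl) p.s = germ p.ξ F' q.U (ptMk q.l h.symm) q.s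

theorem Eqv.germ_eq {p q : PS F' Ω} (h : Eqv p q) (ξ : Spec (CommRingCat.of Ω) ⟶ X') (hp : p.ξ = ξ)
    (hq : q.ξ = ξ) : germ ξ F' p.U (ptMk p.l hp) p.s = germ ξ F' q.U (ptMk q.l hq) q.s := by
  subst hp
  exact h.2

theorem Eqv.symm {p q : PS F' Ω} (h : Eqv p q) : Eqv q p :=
  ⟨h.1.symm, (h.germ_eq q.ξ h.1 rfl).symm⟩

theorem Eqv.trans {p q r : PS F' Ω} (h : Eqv p q) (h' : Eqv q r) : Eqv p r :=
  ⟨h.1.trans h'.1, h.2.trans (h'.germ_eq p.ξ h.1.symm (h.1.trans h'.1).symm)⟩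

theorem eqv_of_germ {p q : PS F' Ω} (ξ : Spec (CommRingCat.of Ω) ⟶ X') (hp : p.ξ = ξ) (hq : q.ξ = ξ)
    (h : germ ξ F' p.U (ptMk p.l hp) p.s = germ ξ F' q.U (ptMk q.l hq) q.s) : Eqv p q := by
  subst hp
  exact ⟨hq.symm, h⟩

/-- Restriction along a morphism of neighbourhoods. -/
theorem eqv_map {U U' : X'.Etale} (g : U' ⟶ U) (l : Spec (CommRingCat.of Ω) ⟶ U'.left) (s : F'.obj.obj (op U)) :
    Eqv (⟨U', l, F'.obj.map g.op s⟩ : PS F' Ω) ⟨U, l ≫ g.left, s⟩ := by
  have hw : (l ≫ g.left) ≫ U.hom = l ≫ U'.hom := (Category.assoc _ _ _).trans (congrArg (l ≫ ·) (Over.w g.hom))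
  refine ⟨hw.symm, ?_⟩
  exact germ_map F' g _ s

variable {f} (φ : (EtDesc.pullSh (pullback.fst f f)).obj F' ≅ (EtDesc.pullSh (pullback.snd f f)).obj F')

/-- The descent datum relates the germs of `p` and `q` at `w`. -/
def RelW (w : Spec (CommRingCat.of Ω) ⟶ EtDesc.X2 f) (p q : PS F' Ω) (hp : p.ξ = w ≫ pullback.fst f f)
    (hq : q.ξ = w ≫ pullback.snd f f) : Prop :=
  (Scheme.pointSmallEtale w).sheafFiber.map φ.hom
      (germ w ((EtDesc.pullSh (pullback.fst f f)).obj F') _ ((fiberCompIso (pullback.fst f f) w).inv.app p.U (ptMk p.l hp))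
        (pullSect (pullback.fst f f) F' p.s)) =
    germ w ((EtDesc.pullSh (pullback.snd f f)).obj F') _ ((fiberCompIso (pullback.snd f f) w).inv.app q.U (ptMk q.l hq))
      (pullSect (pullback.snd f f) F' q.s)

/-- The descent datum relates `p` and `q`. -/
def Rel (p q : PS F' Ω) : Prop :=
  ∃ (w : Spec (CommRingCat.of Ω) ⟶ EtDesc.X2 f) (hp : p.ξ = w ≫ pullback.fst f f)
    (hq : q.ξ = w ≫ pullback.snd f f), RelW φ w p q hp hq

variable {φ}

theorem Rel.over {p q : PS F' Ω} (h : Rel φ p q) : p.ξ ≫ f = q.ξ ≫ f := by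
  obtain ⟨w, hp, hq, -⟩ := h
  rw [hp, hq, Category.assoc, Category.assoc, pullback.condition]

theorem Rel.at {p q : PS F' Ω} (h : Rel φ p q) (w : Spec (CommRingCat.of Ω) ⟶ EtDesc.X2 f)
    (hp : p.ξ = w ≫ pullback.fst f f) (hq : q.ξ = w ≫ pullback.snd f f) : RelW φ w p q hp hq := by
  obtain ⟨w', hp', hq', h'⟩ := h
  obtain rfl : w = w' := pullback.hom_ext (hp.symm.trans hp') (hq.symm.trans hq')
  exact h'

/-- The germ of the pulled back section only depends on the germ. -/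
theorem germ_pullSect_congr {T : Scheme.{u}} (g : T ⟶ X') (w : Spec (CommRingCat.of Ω) ⟶ T) {p q : PS F' Ω}
    (hp : p.ξ = w ≫ g) (hq : q.ξ = w ≫ g) :
    germ w ((EtDesc.pullSh g).obj F') _ ((fiberCompIso g w).inv.app p.U (ptMk p.l hp)) (pullSect g F' p.s) =
        germ w ((EtDesc.pullSh g).obj F') _ ((fiberCompIso g w).inv.app q.U (ptMk q.l hq)) (pullSect g F' q.s) ↔ Eqv p q := by
  rw [germ_pullSect, germ_pullSect]
  refine ⟨fun h => eqv_of_germ _ hp hq (((isIso_iff_bijective _).1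
    (inferInstance : IsIso ((stalkPullShIso g w).inv.app F'))).1 h), fun h => congrArg _ (h.germ_eq _ hp hq)⟩

theorem Rel.congr_left {p p' q : PS F' Ω} (h : Rel φ p q) (e : Eqv p p') : Rel φ p' q := by
  obtain ⟨w, hp, hq, h'⟩ := h
  refine ⟨w, e.1.symm.trans hp, hq, ?_⟩
  exact (congrArg _ ((germ_pullSect_congr _ w hp (e.1.symm.trans hp)).2 e)).symm.trans h'

theorem Rel.congr_right {p q q' : PS F' Ω} (h : Rel φ p q) (e : Eqv q q') : Rel φ p q' := by
  obtain ⟨w, hp, hq, h'⟩ := h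
  refine ⟨w, hp, e.1.symm.trans hq, ?_⟩
  exact h'.trans ((germ_pullSect_congr _ w hq (e.1.symm.trans hq)).2 e)

theorem Rel.eqv_right {p q q' : PS F' Ω} (h : Rel φ p q) (h' : Rel φ p q') (hq : q.ξ = q'.ξ) : Eqv q q' := by
  obtain ⟨w, hp, hqw, e⟩ := h
  exact (germ_pullSect_congr _ w hqw (hq.symm.trans hqw)).1 (e.symm.trans (h'.at w hp (hq.symm.trans hqw)))

theorem Rel.eqv_left {p p' q : PS F' Ω} (h : Rel φ p q) (h' : Rel φ p' q) (hp : p.ξ = p'.ξ) : Eqv p p' := by
  obtain ⟨w, hpw, hq, e⟩ := h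
  refine (germ_pullSect_congr _ w hpw (hp.symm.trans hpw)).1 (((isIso_iff_bijective _).1 (inferInstance :
    IsIso ((Scheme.pointSmallEtale w).sheafFiber.map φ.hom))).1 ?_)
  exact e.trans (h'.at w (hp.symm.trans hpw) hq).symm

variable (φ) in
/-- Every pointed section is related to one at each point over the same point of `X`. -/
theorem exists_rel (p : PS F' Ω) (ξ : Spec (CommRingCat.of Ω) ⟶ X') (h : p.ξ ≫ f = ξ ≫ f) :
    ∃ q : PS F' Ω, q.ξ = ξ ∧ Rel φ p q := by
  let w : Spec (CommRingCat.of Ω) ⟶ EtDesc.X2 f := pullback.lift p.ξ ξ h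
  have hp : p.ξ = w ≫ pullback.fst f f := (pullback.lift_fst _ _ _).symm
  obtain ⟨b, hb⟩ := ((isIso_iff_bijective _).1 (inferInstance :
    IsIso ((stalkPullShIso (pullback.snd f f) w).inv.app F'))).2
      ((Scheme.pointSmallEtale w).sheafFiber.map φ.hom
        (germ w ((EtDesc.pullSh (pullback.fst f f)).obj F') _ ((fiberCompIso (pullback.fst f f) w).inv.app p.U (ptMk p.l hp))
          (pullSect (pullback.fst f f) F' p.s)))
  obtain ⟨U, z, s, rfl⟩ := germ_surjective (w ≫ pullback.snd f f) F' b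
  refine ⟨⟨U, z.left, s⟩, (Over.w z).trans (pullback.lift_snd _ _ _), w, hp, Over.w z, ?_⟩
  exact hb.symm.trans ((germ_pullSect (pullback.snd f f) F' w z s).symm)

/-- The value of a pulled back descent datum. -/
theorem stalk_pullIsoVia_iff (g : EtDesc.X3 f ⟶ EtDesc.X2 f) (b₁ b₂ : EtDesc.X3 f ⟶ X')
    (w₁ : g ≫ pullback.fst f f = b₁) (w₂ : g ≫ pullback.snd f f = b₂)
    (t : Spec (CommRingCat.of Ω) ⟶ EtDesc.X3 f) (p q : PS F' Ω) (hp : p.ξ = t ≫ b₁) (hq : q.ξ = t ≫ b₂) :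
    (Scheme.pointSmallEtale t).sheafFiber.map (EtDesc.pullIsoVia g b₁ b₂ w₁ w₂ F' φ).hom
        (germ t ((EtDesc.pullSh b₁).obj F') _ ((fiberCompIso b₁ t).inv.app p.U (ptMk p.l hp)) (pullSect b₁ F' p.s)) =
      germ t ((EtDesc.pullSh b₂).obj F') _ ((fiberCompIso b₂ t).inv.app q.U (ptMk q.l hq)) (pullSect b₂ F' q.s) ↔
    Rel φ p q := by
  have hp' : p.ξ = (t ≫ g) ≫ pullback.fst f f := by rw [Category.assoc, w₁, hp]
  have hq' : q.ξ = (t ≫ g) ≫ pullback.snd f f := by rw [Category.assoc, w₂, hq]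
  let z₁ := (fiberCompIso (pullback.fst f f) (t ≫ g)).inv.app p.U (ptMk p.l hp')
  let z₂ := (fiberCompIso (pullback.snd f f) (t ≫ g)).inv.app q.U (ptMk q.l hq')
  have e₁ := stalk_pullVia g (pullback.fst f f) b₁ w₁ F' p.s t z₁
    ((fiberCompIso b₁ t).inv.app p.U (ptMk p.l hp)) ((fci_inv_fst _ _ _).trans (fci_inv_fst b₁ t (ptMk p.l hp)).symm)
  have e₂ := stalk_pullVia g (pullback.snd f f) b₂ w₂ F' q.s t z₂
    ((fiberCompIso b₂ t).inv.app q.U (ptMk q.l hq)) ((fci_inv_fst _ _ _).trans (fci_inv_fst b₂ t (ptMk q.l hq)).symm)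
  have e₃ : (Scheme.pointSmallEtale t).sheafFiber.map (EtDesc.pullIsoVia g b₁ b₂ w₁ w₂ F' φ).hom
        (germ t ((EtDesc.pullSh b₁).obj F') _ ((fiberCompIso b₁ t).inv.app p.U (ptMk p.l hp)) (pullSect b₁ F' p.s)) =
      (Scheme.pointSmallEtale t).sheafFiber.map (EtDesc.pullVia g (pullback.snd f f) b₂ w₂ F').hom
        ((stalkPullShIso g t).inv.app _ ((Scheme.pointSmallEtale (t ≫ g)).sheafFiber.map φ.hom
          (germ (t ≫ g) ((EtDesc.pullSh (pullback.fst f f)).obj F') _ z₁ (pullSect (pullback.fst f f) F' p.s)))) := by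
    rw [← stalk_pull_naturality, ← germ_pullSect, ← e₁]
    exact map_iso_inv_comp (Scheme.pointSmallEtale t).sheafFiber (EtDesc.pullVia g (pullback.fst f f) b₁ w₁ F')
      ((EtDesc.pullSh g).map φ.hom) (EtDesc.pullVia g (pullback.snd f f) b₂ w₂ F').hom _
  rw [e₃, ← e₂, germ_pullSect g ((EtDesc.pullSh (pullback.snd f f)).obj F') t z₂]
  have hV : Function.Injective ((Scheme.pointSmallEtale t).sheafFiber.map
      (EtDesc.pullVia g (pullback.snd f f) b₂ w₂ F').hom) :=
    ((isIso_iff_bijective _).1 (inferInstance : IsIso ((Scheme.pointSmallEtale t).sheafFiber.map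
      (EtDesc.pullVia g (pullback.snd f f) b₂ w₂ F').hom))).1
  have hI : Function.Injective ((stalkPullShIso g t).inv.app ((EtDesc.pullSh (pullback.snd f f)).obj F')) :=
    ((isIso_iff_bijective _).1 (inferInstance :
      IsIso ((stalkPullShIso g t).inv.app ((EtDesc.pullSh (pullback.snd f f)).obj F')))).1
  exact ⟨fun e => ⟨t ≫ g, hp', hq', hI (hV e)⟩, fun e => congrArg _ (congrArg _ (e.at _ hp' hq'))⟩

variable (hφ : EtDesc.IsCocycle F' φ)

include hφ in
/-- The cocycle condition. -/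
theorem Rel.trans {p q r : PS F' Ω} (h : Rel φ p q) (h' : Rel φ q r) : Rel φ p r := by
  let w : Spec (CommRingCat.of Ω) ⟶ EtDesc.X2 f := pullback.lift p.ξ q.ξ h.over
  let w' : Spec (CommRingCat.of Ω) ⟶ EtDesc.X2 f := pullback.lift q.ξ r.ξ h'.over
  let t : Spec (CommRingCat.of Ω) ⟶ EtDesc.X3 f :=
    pullback.lift w w' ((pullback.lift_snd _ _ _).trans (pullback.lift_fst _ _ _).symm)
  have hp : p.ξ = t ≫ EtDesc.q1 :=
    ((pullback.lift_fst _ _ _).symm.trans (congrArg (· ≫ _) (pullback.lift_fst _ _ _).symm)).trans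
      (Category.assoc _ _ _)
  have hq : q.ξ = t ≫ EtDesc.q2 :=
    ((pullback.lift_snd _ _ _).symm.trans (congrArg (· ≫ _) (pullback.lift_fst _ _ _).symm)).trans
      (Category.assoc _ _ _)
  have hr : r.ξ = t ≫ EtDesc.q3 :=
    ((pullback.lift_snd _ _ _).symm.trans (congrArg (· ≫ _) (pullback.lift_snd _ _ _).symm)).trans
      (Category.assoc _ _ _)
  have e12 := (stalk_pullIsoVia_iff (φ := φ) (EtDesc.p12 f) EtDesc.q1 EtDesc.q2 rfl rfl t p q hp hq).2 h
  have e23 := (stalk_pullIsoVia_iff (φ := φ) (EtDesc.p23 f) EtDesc.q2 EtDesc.q3 EtDesc.p23_fst rfl t q r hq hr).2 h'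
  refine (stalk_pullIsoVia_iff (φ := φ) (EtDesc.p13 f) EtDesc.q1 EtDesc.q3 EtDesc.p13_fst EtDesc.p13_snd t p r
    hp hr).1 ?_
  rw [← hφ, Functor.map_comp]
  exact (congrArg _ e12).trans e23

include hφ in
theorem rel_refl (p : PS F' Ω) : Rel φ p p := by
  obtain ⟨q, hq, h⟩ := exists_rel φ p p.ξ rfl
  obtain ⟨r, hr, h'⟩ := exists_rel φ q q.ξ rfl
  have hqq : Rel φ q q := h'.congr_right (Rel.eqv_right (h.trans hφ h') h hr)
  exact h.congr_right (h.eqv_left hqq hq.symm).symm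

include hφ in
theorem Rel.symm {p q : PS F' Ω} (h : Rel φ p q) : Rel φ q p := by
  obtain ⟨r, hr, h'⟩ := exists_rel φ q p.ξ h.over.symm
  exact h'.congr_right (Rel.eqv_right (h.trans hφ h') (rel_refl hφ p) hr)

/-- The points where two neighbouring sections are related form an open set. -/
theorem rel_iff_mem_agree {U₁ U₂ : X'.Etale} (σ : F'.obj.obj (op U₁)) (τ : F'.obj.obj (op U₂))
    {W : (EtDesc.X2 f).Etale} (a : W ⟶ (EtCoh.bc (pullback.fst f f)).obj U₁)
    (b : W ⟶ (EtCoh.bc (pullback.snd f f)).obj U₂) (y : Spec (CommRingCat.of Ω) ⟶ W.left) :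
    Rel φ (⟨U₁, y ≫ a.left ≫ pullback.fst U₁.hom (pullback.fst f f), σ⟩ : PS F' Ω)
        ⟨U₂, y ≫ b.left ≫ pullback.fst U₂.hom (pullback.snd f f), τ⟩ ↔
      y.base default ∈ agree ((EtDesc.pullSh (pullback.snd f f)).obj F')
        (((EtDesc.pullSh (pullback.snd f f)).obj F').obj.map a.op
          (φ.hom.hom.app _ (pullSect (pullback.fst f f) F' σ)))
        (((EtDesc.pullSh (pullback.snd f f)).obj F').obj.map b.op (pullSect (pullback.snd f f) F' τ)) := by
  let w : Spec (CommRingCat.of Ω) ⟶ EtDesc.X2 f := y ≫ W.hom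
  have hp : (y ≫ a.left ≫ pullback.fst U₁.hom (pullback.fst f f)) ≫ U₁.hom = w ≫ pullback.fst f f := by
    show (y ≫ a.left ≫ pullback.fst U₁.hom (pullback.fst f f)) ≫ U₁.hom = (y ≫ W.hom) ≫ _
    rw [show W.hom = a.left ≫ _ from (Over.w a.hom).symm]
    simp only [Category.assoc]
    exact congrArg (y ≫ ·) (congrArg (a.left ≫ ·) pullback.condition)
  have hq : (y ≫ b.left ≫ pullback.fst U₂.hom (pullback.snd f f)) ≫ U₂.hom = w ≫ pullback.snd f f := by
    show (y ≫ b.left ≫ pullback.fst U₂.hom (pullback.snd f f)) ≫ U₂.hom = (y ≫ W.hom) ≫ _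
    rw [show W.hom = b.left ≫ _ from (Over.w b.hom).symm]
    simp only [Category.assoc]
    exact congrArg (y ≫ ·) (congrArg (b.left ≫ ·) pullback.condition)
  let yy : (Scheme.pointSmallEtale w).fiber.obj W := ptMk y rfl
  have ea : (Scheme.pointSmallEtale w).fiber.map a yy =
      (fiberCompIso (pullback.fst f f) w).inv.app U₁ (ptMk _ hp) :=
    bcPt_ext ((Category.assoc _ _ _).trans (fci_inv_fst (pullback.fst f f) w (ptMk _ hp)).symm)
  have eb : (Scheme.pointSmallEtale w).fiber.map b yy =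
      (fiberCompIso (pullback.snd f f) w).inv.app U₂ (ptMk _ hq) :=
    bcPt_ext ((Category.assoc _ _ _).trans (fci_inv_fst (pullback.snd f f) w (ptMk _ hq)).symm)
  refine Iff.trans ⟨fun h => h.at w hp hq, fun h => ⟨w, hp, hq, h⟩⟩ ?_
  refine Iff.trans ?_ (germ_eq_iff_mem_agree _ yy _ _)
  rw [germ_map, germ_map, ea, eb, ← germ_naturality]
  rfl

end Groth.Agent.H15Site.EffDesc
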