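import Groth.Agent.H15Site.EffDesc.FibreBij
import Groth.Agent.H15Site.EffDesc.Points

/-!
# Gluing on geometric fibres and shrinking neighbourhoods
-/

set_option autoImplicit false
set_option linter.style.haveILetI false
set_option linter.unusedSectionVars false
set_option backward.isDefEq.respectTransparency false
set_option backward.isDefEq.respectTransparency.types false

universe u

open CategoryTheory CategoryTheory.Limits AlgebraicGeometry Opposite
open scoped Groth.Agent.H18Et

namespace Groth.Agent.H15Site.EffDesc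

open H15Site.SetDescent H18Et H18PBC.Fibre

variable {X Y : Scheme.{u}} {f : X ⟶ Y} {Ω : Type u} [Field Ω] [IsAlgClosed Ω]
  {η : Spec (CommRingCat.of Ω) ⟶ Y}

/-- Every nonempty closed subset of a scheme etale over a geometric fibre has a rational point. -/
theorem Good.exists_pt_etale (hf : Good f) {W : (pullback f η).Etale} (Z : Set W.left) (hZ : IsClosed Z)
    (hne : Z.Nonempty) :
    ∃ y : Spec (CommRingCat.of Ω) ⟶ W.left, (y ≫ W.hom) ≫ pullback.snd f η = 𝟙 _ ∧ y.base default ∈ Z := by
  haveI : Etale W.hom := W.prop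
  rcases hf with h | h
  · haveI := h
    let p : W.left ⟶ Spec (CommRingCat.of Ω) := W.hom ≫ pullback.snd f η
    haveI : LocallyOfFiniteType p := inferInstanceAs (LocallyOfFiniteType (W.hom ≫ pullback.snd f η))
    haveI : JacobsonSpace W.left := LocallyOfFiniteType.jacobsonSpace p
    obtain ⟨x, hx, hxc⟩ := nonempty_inter_closedPoints hne hZ.isLocallyClosed
    obtain ⟨⟨l, hl⟩, hlx⟩ := (pointEquivClosedPoint p).surjective ⟨x, hxc⟩
    refine ⟨l, (Category.assoc _ _ _).trans hl, ?_⟩
    have hlx' : l.base default = x := by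
      refine Eq.trans ?_ (congrArg Subtype.val hlx)
      exact congrArg l.base (Subsingleton.elim _ _)
    rw [hlx']; exact hx
  · haveI := h
    obtain ⟨x, hx⟩ := hne
    obtain ⟨ξ, hξ⟩ := surjective_qOf (f := f) (η := η) (W.hom.base x)
    obtain ⟨y, hy, hyx⟩ := Scheme.exists_fac_of_etale_of_isSepClosed W.hom (secPt ξ) x hξ.symm
    refine ⟨y, by rw [hy, pullback.lift_snd], ?_⟩
    have hd : y.base default = x := (congrArg y.base (Subsingleton.elim _ _)).trans hyx
    exact (congrArg (· ∈ Z) hd).mpr hx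

/-- An open subset of a scheme etale over a geometric fibre containing all rational points is everything. -/
theorem Good.mem_of_open (hf : Good f) {W : (pullback f η).Etale} {O : Set W.left} (hO : IsOpen O)
    (h : ∀ y : Spec (CommRingCat.of Ω) ⟶ W.left, (y ≫ W.hom) ≫ pullback.snd f η = 𝟙 _ → y.base default ∈ O)
    (x : W.left) : x ∈ O := by
  by_contra hx
  obtain ⟨y, hy, hyO⟩ := hf.exists_pt_etale Oᶜ hO.isClosed_compl ⟨x, hx⟩
  exact hyO (h y hy)

variable {V : Y.Etale}

/-- An open set of the base change of a pointed neighbourhood containing the rational points of the fibre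
contains the preimage of a smaller neighbourhood. -/
theorem Good.exists_shrink (hf : Good f) (v : (Scheme.pointSmallEtale η).fiber.obj V)
    (O : Set ((EtCoh.bc f).obj V).left) (hO : IsOpen O)
    (h : ∀ y : Spec (CommRingCat.of Ω) ⟶ ((EtCoh.bc f).obj V).left,
      y ≫ pullback.fst V.hom f = v.left → y.base default ∈ O) :
    ∃ (V₁ : Y.Etale) (i : V₁ ⟶ V) (v₁ : (Scheme.pointSmallEtale η).fiber.obj V₁),
      v₁.left ≫ i.left = v.left ∧ ∀ x, ((EtCoh.bc f).map i).left.base x ∈ O := by
  let ι : pullback f η ⟶ pullback V.hom f :=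
    pullback.lift (pullback.snd f η ≫ v.left) (pullback.fst f η)
      ((Category.assoc _ _ _).trans ((congrArg (_ ≫ ·) (Over.w v)).trans pullback.condition.symm))
  have hall : ι.base ⁻¹' O = Set.univ := hf.eq_univ (hO.preimage ι.continuous) fun ξ => by
    refine (congrArg (· ∈ O) ?_).mp (h (secPt ξ ≫ ι) ?_)
    · exact Scheme.Hom.comp_apply _ _ _
    · exact (Category.assoc _ _ _).trans ((congrArg (secPt ξ ≫ ·) (pullback.lift_fst _ _ _)).trans
        ((Category.assoc _ _ _).symm.trans ((congrArg (· ≫ v.left) (pullback.lift_snd _ _ _)).trans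
          (Category.id_comp _))))
  haveI := hf.universallyClosed
  haveI : UniversallyClosed (pullback.fst V.hom f) :=
    MorphismProperty.pullback_fst (P := @UniversallyClosed) _ _ inferInstance
  let C : Set V.left := (pullback.fst V.hom f).base '' Oᶜ
  have hC : IsClosed C := (pullback.fst V.hom f).isClosedMap _ hO.isClosed_compl
  let U : V.left.Opens := ⟨Cᶜ, hC.isOpen_compl⟩
  have hv : ptOf v ∈ U := by
    rintro ⟨x, hx, hxv⟩
    refine hx ?_
    -- the point lies on the fibre over the point
    obtain ⟨z, hz, -⟩ := Scheme.Pullback.exists_preimage_pullback (f := pullback.fst V.hom f) (g := v.left) x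
      (default : Spec (CommRingCat.of Ω)) hxv
    let a : pullback (pullback.fst V.hom f) v.left ⟶ pullback f η :=
      pullback.lift (pullback.fst _ _ ≫ pullback.snd V.hom f) (pullback.snd _ _)
        ((Category.assoc _ _ _).trans ((congrArg (_ ≫ ·) pullback.condition.symm).trans
          ((Category.assoc _ _ _).symm.trans ((congrArg (· ≫ V.hom) pullback.condition).trans
            ((Category.assoc _ _ _).trans (congrArg (_ ≫ ·) (Over.w v)))))))
    have ha : a ≫ ι = pullback.fst (pullback.fst V.hom f) v.left := by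
      refine pullback.hom_ext ?_ ?_
      · exact (Category.assoc _ _ _).trans ((congrArg (a ≫ ·) (pullback.lift_fst _ _ _)).trans
          ((Category.assoc _ _ _).symm.trans ((congrArg (· ≫ v.left) (pullback.lift_snd _ _ _)).trans
            pullback.condition.symm)))
      · exact (Category.assoc _ _ _).trans ((congrArg (a ≫ ·) (pullback.lift_snd _ _ _)).trans
          (pullback.lift_fst _ _ _))
    have h2 : a.base z ∈ ι.base ⁻¹' O := hall ▸ Set.mem_univ _
    have e1 : ι.base (a.base z) = x :=
      ((Scheme.Hom.comp_apply _ _ _).symm.trans (congrArg (fun k : _ ⟶ pullback V.hom f => k.base z) ha)).trans hz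
    exact e1 ▸ h2
  let V₁ : Y.Etale := openObj V U
  obtain ⟨v₁, hv₁⟩ := exists_openPt U v hv
  refine ⟨V₁, openHom V U, v₁, congrArg (fun z => z.left) hv₁, fun x => ?_⟩
  by_contra hx
  have h1 : (pullback.fst V.hom f).base (((EtCoh.bc f).map (openHom V U)).left.base x) ∈ C := ⟨_, hx, rfl⟩
  have h2 : (pullback.fst V.hom f).base (((EtCoh.bc f).map (openHom V U)).left.base x) ∈ U := by
    refine (congrArg (· ∈ U) (((Scheme.Hom.comp_apply _ _ _).symm.trans
      (congrArg (fun k : ((EtCoh.bc f).obj V₁).left ⟶ V.left => k.base x)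
        (EtCoh.isPullback_bc_map f (openHom V U)).w)).trans (Scheme.Hom.comp_apply _ _ _))).mpr ?_
    exact ((pullback.fst V₁.hom f).base x).2
  exact h2 h1

/-- Glueing over a geometric fibre: a property selecting at most one section on each piece and having
local solutions near the rational points has a global solution. -/
theorem Good.exists_glue (hf : Good f) (G : EtDesc.Sh (pullback f η)) (T : (pullback f η).Etale)
    (P : ∀ ⦃W : (pullback f η).Etale⦄, (W ⟶ T) → G.obj.obj (op W) → Prop)
    (hmap : ∀ ⦃W W' : (pullback f η).Etale⦄ (g : W ⟶ T) (e : W' ⟶ W) (r : G.obj.obj (op W)),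
      P g r → P (e ≫ g) (G.obj.map e.op r))
    (huniq : ∀ ⦃W : (pullback f η).Etale⦄ (g : W ⟶ T) (r r' : G.obj.obj (op W)), P g r → P g r' → r = r')
    (hex : ∀ y : Spec (CommRingCat.of Ω) ⟶ T.left, (y ≫ T.hom) ≫ pullback.snd f η = 𝟙 _ →
      ∃ (W : (pullback f η).Etale) (g : W ⟶ T) (r : G.obj.obj (op W)),
        y.base default ∈ Set.range g.left.base ∧ P g r) :
    ∃ σ : G.obj.obj (op T), ∀ y : Spec (CommRingCat.of Ω) ⟶ T.left, (y ≫ T.hom) ≫ pullback.snd f η = 𝟙 _ →
      ∃ (W : (pullback f η).Etale) (g : W ⟶ T), y.base default ∈ Set.range g.left.base ∧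
        P g (G.obj.map g.op σ) := by
  let R : Sieve T :=
    { arrows := fun W g => ∃ r, P g r
      downward_closed := fun {W W'} g ⟨r, hr⟩ e => ⟨_, hmap g e r hr⟩ }
  let O : Set T.left := {u | ∃ (W : (pullback f η).Etale) (g : W ⟶ T) (r : G.obj.obj (op W)),
    u ∈ Set.range g.left.base ∧ P g r}
  have hO : IsOpen O := by
    refine isOpen_iff_forall_mem_open.2 ?_
    rintro u ⟨W, g, r, hu, hr⟩
    haveI := etale_left g
    exact ⟨Set.range g.left.base, fun _ hu' => ⟨W, g, r, hu', hr⟩, g.left.isOpenMap.isOpen_range, hu⟩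
  have hR : R ∈ (pullback f η).smallEtaleTopology T := mem_topology_of_forall_point _ fun u => by
    obtain ⟨W, g, r, ⟨w, hw⟩, hr⟩ := hf.mem_of_open hO hex u
    exact ⟨W, g, w, ⟨r, hr⟩, hw⟩
  have hG : Presieve.IsSheafFor G.obj R.arrows := (isSheaf_iff_isSheaf_of_type _ _).1 G.property R hR
  let fam : Presieve.FamilyOfElements G.obj R.arrows := fun W g hg => hg.choose
  have hfam : fam.Compatible := fun W₁ W₂ Z g₁ g₂ f₁ f₂ h₁ h₂ hcomp => by
    refine huniq (g₁ ≫ f₁) _ _ (hmap f₁ g₁ _ h₁.choose_spec) ?_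
    rw [hcomp]
    exact hmap f₂ g₂ _ h₂.choose_spec
  refine ⟨hG.amalgamate fam hfam, fun y hy => ?_⟩
  obtain ⟨W, g, r, hu, hr⟩ := hex y hy
  refine ⟨W, g, hu, ?_⟩
  rw [hG.valid_glue hfam g ⟨r, hr⟩]
  exact (⟨r, hr⟩ : ∃ r, P g r).choose_spec

end Groth.Agent.H15Site.EffDesc
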