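import Groth.Agent.H15Site.EffDesc.RelLocus
import Groth.Agent.H18Et.PropACConseq
import Groth.Agent.S1379

/-!
# Effective descent of etale sheaves of sets along fppf coverings
-/

set_option autoImplicit false
set_option linter.style.haveILetI false
set_option linter.unusedSectionVars false
set_option backward.isDefEq.respectTransparency false
set_option backward.isDefEq.respectTransparency.types false

universe u

open CategoryTheory CategoryTheory.Limits AlgebraicGeometry Opposite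
open scoped Groth.Agent.H18Et

namespace Groth.Agent.H15Site.EffDesc

open H15Site.SetDescent H18Et

variable {X' X : Scheme.{u}} {f : X' ⟶ X} {F' : EtDesc.Sh X'}
  {φ : (EtDesc.pullSh (pullback.fst f f)).obj F' ≅ (EtDesc.pullSh (pullback.snd f f)).obj F'}

/-- A point of a base change over the point of the base is one of the points of the geometric fibre. -/
theorem exists_pts_over {Z Y : Scheme.{u}} (π : Z ⟶ Y) [IsIntegralHom π] {Ω : Type u} [Field Ω] [IsAlgClosed Ω]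
    {η : Spec (CommRingCat.of Ω) ⟶ Y} (V : Y.Etale) (v : (Scheme.pointSmallEtale η).fiber.obj V)
    (x : ↥(pullback V.hom π)) (hx : (pullback.fst V.hom π).base x = ptOf v) :
    ∃ ζ : Pts π η, ptOf (bcPt ζ V v) = x := by
  obtain ⟨z, hz, -⟩ := Scheme.Pullback.exists_preimage_pullback (f := pullback.fst V.hom π) (g := v.left) x
    (default : Spec (CommRingCat.of Ω)) hx
  let a : pullback (pullback.fst V.hom π) v.left ⟶ pullback π η :=
    pullback.lift (pullback.fst _ _ ≫ pullback.snd V.hom π) (pullback.snd _ _)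
      ((Category.assoc _ _ _).trans ((congrArg (_ ≫ ·) pullback.condition.symm).trans
        ((Category.assoc _ _ _).symm.trans ((congrArg (· ≫ V.hom) pullback.condition).trans
          ((Category.assoc _ _ _).trans (congrArg (_ ≫ ·) (Over.w v)))))))
  have ha : a ≫ ιFib V v = pullback.fst (pullback.fst V.hom π) v.left := by
    refine pullback.hom_ext ?_ ?_
    · exact (Category.assoc _ _ _).trans ((congrArg (a ≫ ·) (pullback.lift_fst _ _ _)).trans
        ((Category.assoc _ _ _).symm.trans ((congrArg (· ≫ v.left) (pullback.lift_snd _ _ _)).trans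
          pullback.condition.symm)))
    · exact (Category.assoc _ _ _).trans ((congrArg (a ≫ ·) (pullback.lift_snd _ _ _)).trans
        (pullback.lift_fst _ _ _))
  obtain ⟨ζ, hζ⟩ := surjective_qOf (f := π) (η := η) (a.base z)
  refine ⟨ζ, (ptOf_bcPt ζ V v).trans ?_⟩
  rw [hζ]
  exact ((Scheme.Hom.comp_apply _ _ _).symm.trans
    (congrArg (fun k : _ ⟶ pullback V.hom π => k.base z) ha)).trans hz

variable (hφ : EtDesc.IsCocycle F' φ)

include hφ in
theorem hasLocalData_of_fppf [Surjective f] [Flat f] [LocallyOfFinitePresentation f] : HasLocalData φ := by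
  intro Ω _ _ p
  classical
  let η := p.ξ ≫ f
  obtain ⟨S', V', e, π, he, hx, hsurj, hfin, hflat, hlfp, hW⟩ := S1379.result f (η.base default)
  obtain ⟨x₀, hx₀⟩ := hx
  obtain ⟨v₀, hv₀, -⟩ := Scheme.exists_fac_of_etale_of_isSepClosed e η x₀ hx₀
  haveI := hfin
  haveI : Finite (Pts π v₀) := finite_pts π v₀
  haveI := Fintype.ofFinite (Pts π v₀)
  choose W r hzW hr using fun ζ : Pts π v₀ => hW (ζ.1.base default)
  -- the points of `X'` and their sections
  let zW : ∀ ζ : Pts π v₀, Spec (CommRingCat.of Ω) ⟶ (W ζ).toScheme := fun ζ =>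
    IsOpenImmersion.lift (W ζ).ι ζ.1 (by
      rw [Scheme.Opens.range_ι]
      rintro _ ⟨q, rfl⟩
      rw [Subsingleton.elim q default]
      exact hzW ζ)
  have hzWι : ∀ ζ, zW ζ ≫ (W ζ).ι = ζ.1 := fun ζ => IsOpenImmersion.lift_fac _ _ _
  have hover : ∀ ζ : Pts π v₀, p.ξ ≫ f = (zW ζ ≫ r ζ) ≫ f := fun ζ => by
    show η = _
    exact ((Category.assoc _ _ _).trans ((congrArg (zW ζ ≫ ·) (hr ζ)).trans
      ((Category.assoc _ _ _).symm.trans ((congrArg (· ≫ π ≫ e) (hzWι ζ)).trans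
        ((Category.assoc _ _ _).symm.trans ((congrArg (· ≫ e) ζ.2).trans hv₀)))))).symm
  choose q hq hrel using fun ζ : Pts π v₀ => exists_rel φ p (zW ζ ≫ r ζ) (hover ζ)
  -- the neighbourhoods of the points in `V'`
  let Uz : ∀ _ζ : Pts π v₀, V'.Etale := fun ζ =>
    haveI : Etale (q ζ).U.hom := (q ζ).U.prop
    MorphismProperty.Over.mk ⊤ (pullback.fst (r ζ) (q ζ).U.hom ≫ (W ζ).ι)
      (inferInstanceAs (Etale (pullback.fst (r ζ) (q ζ).U.hom ≫ (W ζ).ι)))
  let zz : ∀ ζ : Pts π v₀, Spec (CommRingCat.of Ω) ⟶ (Uz ζ).left := fun ζ =>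
    pullback.lift (zW ζ) (q ζ).l (hq ζ).symm
  have hzz : ∀ ζ, zz ζ ≫ (Uz ζ).hom = ζ.1 := fun ζ =>
    (Category.assoc _ _ _).symm.trans ((congrArg (· ≫ (W ζ).ι) (pullback.lift_fst _ _ _)).trans (hzWι ζ))
  choose V₁ v₁ O₁ k hO₁ hk using fun ζ : Pts π v₀ =>
    exists_bc_lift ζ (Uz ζ) (Over.homMk (zz ζ) (hzz ζ))
  choose V₂ v₂ O₂ hO₂ hiso using fun ζ : Pts π v₀ => exists_isolating ζ
  let el₁ : Pts π v₀ → (Scheme.pointSmallEtale v₀).fiber.Elements := fun ζ => ⟨V₁ ζ, v₁ ζ⟩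
  let el₂ : Pts π v₀ → (Scheme.pointSmallEtale v₀).fiber.Elements := fun ζ => ⟨V₂ ζ, v₂ ζ⟩
  obtain ⟨⟨V, v⟩, hVv⟩ := IsCofiltered.inf_objs_exists
    ((Finset.univ.image el₁) ∪ (Finset.univ.image el₂))
  choose g₁ hg₁ using fun ζ : Pts π v₀ => (show ∃ g : V ⟶ V₁ ζ,
      (Scheme.pointSmallEtale v₀).fiber.map g v = v₁ ζ from by
    obtain ⟨⟨g, hg⟩⟩ := hVv (Finset.mem_union_left _ (Finset.mem_image_of_mem
      el₁ (Finset.mem_univ ζ)))
    exact ⟨g, hg⟩)
  choose g₂ hg₂ using fun ζ : Pts π v₀ => (show ∃ g : V ⟶ V₂ ζ,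
      (Scheme.pointSmallEtale v₀).fiber.map g v = v₂ ζ from by
    obtain ⟨⟨g, hg⟩⟩ := hVv (Finset.mem_union_right _ (Finset.mem_image_of_mem
      el₂ (Finset.mem_univ ζ)))
    exact ⟨g, hg⟩)
  let Z₁ := (EtCoh.bc π).obj V
  let O : Pts π v₀ → Z₁.left.Opens := fun ζ =>
    ((EtCoh.bc π).map (g₁ ζ)).left ⁻¹ᵁ O₁ ζ ⊓ ((EtCoh.bc π).map (g₂ ζ)).left ⁻¹ᵁ O₂ ζ
  have hb₁ : ∀ ζ ζ' : Pts π v₀, ((EtCoh.bc π).map (g₁ ζ)).left.base (ptOf (bcPt ζ' V v)) =
      ptOf (bcPt ζ' (V₁ ζ) (v₁ ζ)) := fun ζ ζ' =>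
    (ptOf_map _ _).trans (congrArg ptOf (bcPt_map ζ' (g₁ ζ) (hg₁ ζ)))
  have hb₂ : ∀ ζ ζ' : Pts π v₀, ((EtCoh.bc π).map (g₂ ζ)).left.base (ptOf (bcPt ζ' V v)) =
      ptOf (bcPt ζ' (V₂ ζ) (v₂ ζ)) := fun ζ ζ' =>
    (ptOf_map _ _).trans (congrArg ptOf (bcPt_map ζ' (g₂ ζ) (hg₂ ζ)))
  have hmemO : ∀ ζ, ptOf (bcPt ζ V v) ∈ O ζ := fun ζ =>
    ⟨(congrArg (· ∈ O₁ ζ) (hb₁ ζ ζ)).mpr (hO₁ ζ), (congrArg (· ∈ O₂ ζ) (hb₂ ζ ζ)).mpr (hO₂ ζ)⟩
  have hisoO : ∀ ζ ζ', ptOf (bcPt ζ' V v) ∈ O ζ → ζ' = ζ := fun ζ ζ' h =>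
    hiso ζ ζ' ((congrArg (· ∈ O₂ ζ) (hb₂ ζ ζ')).mp h.2)
  -- a section of the disjoint union of these opens over an etale neighbourhood
  let g : (∐ fun ζ => (O ζ).toScheme) ⟶ pullback V.hom π :=
    Limits.Sigma.desc fun ζ => (show (O ζ).toScheme ⟶ pullback V.hom π from (O ζ).ι)
  haveI : IsZariskiLocalAtSource (EtCoh.etaleMP.{u}) := inferInstance
  haveI : Etale g := IsZariskiLocalAtSource.sigmaDesc (P := EtCoh.etaleMP.{u})
    fun ζ => inferInstanceAs (Etale (O ζ).ι)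
  haveI : IsFinite (pullback.fst V.hom π) := MorphismProperty.pullback_fst (P := @IsFinite) _ _ hfin
  obtain ⟨V'', q', hq', ⟨w₀, hw₀⟩, a, ha⟩ := exists_etale_section (pullback.fst V.hom π) g (ptOf v) fun x hx => by
    obtain ⟨ζ, hζ⟩ := exists_pts_over π V v x hx
    refine ⟨(Limits.Sigma.ι (fun ζ => (O ζ).toScheme) ζ).base ⟨ptOf (bcPt ζ V v), hmemO ζ⟩, ?_⟩
    refine ((Scheme.Hom.comp_apply _ _ _).symm.trans (congrArg (fun m : (O ζ).toScheme ⟶ pullback V.hom π => m.base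
      (⟨ptOf (bcPt ζ V v), hmemO ζ⟩ : (O ζ).toScheme)) (Sigma.ι_desc _ ζ))).trans hζ
  haveI := hq'
  haveI := he
  obtain ⟨v', hv', -⟩ := Scheme.exists_fac_of_etale_of_isSepClosed q' v.left w₀ hw₀
  -- the etale neighbourhood and the sections
  haveI : Etale V.hom := V.prop
  let V₃ : X.Etale := MorphismProperty.Over.mk ⊤ (q' ≫ V.hom ≫ e) (inferInstanceAs (Etale (q' ≫ V.hom ≫ e)))
  have hv₃ : v' ≫ V₃.hom = η := by
    show v' ≫ q' ≫ V.hom ≫ e = η
    rw [← Category.assoc, hv', ← Category.assoc,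
      show v.left ≫ V.hom = v₀ from Over.w v, hv₀]
  let Z₃ := pullback q' (pullback.fst V.hom π)
  let h₃ : Z₃ ⟶ V₃.left := pullback.fst q' (pullback.fst V.hom π)
  let qU : Pts π v₀ → X'.Etale := fun ζ => (q ζ).U
  let T₀ : Scheme.{u} := ∐ fun ζ => (qU ζ).left
  let tT : T₀ ⟶ X' := Limits.Sigma.desc fun ζ => (qU ζ).hom
  haveI : Etale tT := IsZariskiLocalAtSource.sigmaDesc (P := EtCoh.etaleMP.{u}) fun ζ => (qU ζ).prop
  let T : X'.Etale := MorphismProperty.Over.mk ⊤ tT (inferInstanceAs (Etale tT))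
  let ιT : ∀ ζ, qU ζ ⟶ T := fun ζ =>
    MorphismProperty.Over.homMk (Limits.Sigma.ι (fun ζ => (qU ζ).left) ζ) (Sigma.ι_desc _ ζ) trivial
  haveI : ∀ ζ, Mono (ιT ζ).left := fun ζ => inferInstanceAs (Mono (Limits.Sigma.ι (fun ζ => (qU ζ).left) ζ))
  obtain ⟨τ, hτ⟩ := exists_glue_disjoint F' qU ιT
    (fun i j hij x y hxy => Set.disjoint_left.1 (TopologicalSpace.Opens.coe_disjoint.2
      (disjoint_opensRange_sigmaι (fun ζ => (qU ζ).left) i j hij)) ⟨x, rfl⟩ ⟨y, hxy.symm⟩)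
    (fun x => by
      obtain ⟨i, m, hm⟩ := (sigmaOpenCover fun ζ => (qU ζ).left).exists_eq x
      exact ⟨i, m, hm⟩)
    (fun ζ => (q ζ).s)
  let b : ∀ ζ, (O ζ).toScheme ⟶ (qU ζ).left := fun ζ =>
    (openLift ((EtCoh.bc π).map (g₁ ζ)) (O₁ ζ) (O ζ) inf_le_left).left ≫ (k ζ).left ≫
      pullback.snd (r ζ) (q ζ).U.hom
  let bT : (∐ fun ζ => (O ζ).toScheme) ⟶ T₀ :=
    Limits.Sigma.desc fun ζ => b ζ ≫ Limits.Sigma.ι (fun ζ => (qU ζ).left) ζ
  let a₃ : Z₃ ⟶ T.left := a ≫ bT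
  have hb : ∀ ζ, (b ζ ≫ (qU ζ).hom) ≫ f = (O ζ).ι ≫ pullback.fst V.hom π ≫ V.hom ≫ e := by
    intro ζ
    have h1 : (k ζ).left ≫ (Uz ζ).hom = (openObj ((EtCoh.bc π).obj (V₁ ζ)) (O₁ ζ)).hom := Over.w (k ζ).hom
    have h2 : (openLift ((EtCoh.bc π).map (g₁ ζ)) (O₁ ζ) (O ζ) inf_le_left).left ≫
        (openObj ((EtCoh.bc π).obj (V₁ ζ)) (O₁ ζ)).hom = (O ζ).ι ≫ Z₁.hom :=
      Over.w (openLift ((EtCoh.bc π).map (g₁ ζ)) (O₁ ζ) (O ζ) inf_le_left).hom
    show (((openLift ((EtCoh.bc π).map (g₁ ζ)) (O₁ ζ) (O ζ) inf_le_left).left ≫ (k ζ).left ≫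
      pullback.snd (r ζ) (q ζ).U.hom) ≫ (q ζ).U.hom) ≫ f = _
    simp only [Category.assoc]
    rw [← pullback.condition_assoc, hr ζ, ← Category.assoc (pullback.fst (r ζ) (q ζ).U.hom),
      show (pullback.fst (r ζ) (q ζ).U.hom ≫ (W ζ).ι) = (Uz ζ).hom from rfl, ← Category.assoc (k ζ).left, h1,
      ← Category.assoc, h2, Category.assoc, pullback.condition_assoc]
    rfl
  have hc : (a₃ ≫ T.hom) ≫ f = h₃ ≫ V₃.hom := by
    show ((a ≫ bT) ≫ tT) ≫ f = h₃ ≫ q' ≫ V.hom ≫ e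
    have h1 : bT ≫ tT ≫ f = g ≫ pullback.fst V.hom π ≫ V.hom ≫ e := by
      refine Sigma.hom_ext _ _ fun ζ => ?_
      simp only [bT, g, Sigma.ι_desc_assoc, Category.assoc]
      rw [show Limits.Sigma.ι (fun ζ => (qU ζ).left) ζ ≫ tT ≫ f = (qU ζ).hom ≫ f from
        Sigma.ι_desc_assoc _ _ _, ← Category.assoc, hb ζ]
    rw [Category.assoc, Category.assoc, h1, reassoc_of% ha]
    exact (pullback.condition_assoc _).symm
  -- rational points over the neighbourhood
  have hfib : ∀ z : Spec (CommRingCat.of Ω) ⟶ Z₃, z ≫ h₃ = v' → Rel φ p (⟨T, z ≫ a₃, τ⟩ : PS F' Ω) := by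
    intro z hz
    let y : Spec (CommRingCat.of Ω) ⟶ Z₁.left := z ≫ pullback.snd q' (pullback.fst V.hom π)
    have hy : y ≫ pullback.fst V.hom π = v.left := by
      show (z ≫ pullback.snd _ _) ≫ _ = _
      rw [Category.assoc, ← pullback.condition, ← Category.assoc, hz, hv']
    let ζ : Pts π v₀ := ⟨y ≫ pullback.snd V.hom π, by
      rw [Category.assoc, ← pullback.condition, ← Category.assoc, hy, show v.left ≫ V.hom = v₀ from Over.w v]⟩
    have hbc : (bcPt ζ V v).left = y := by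
      refine pullback.hom_ext ?_ ?_
      · refine (Category.assoc _ _ _).trans ((congrArg (secPt ζ ≫ ·) (pullback.lift_fst _ _ _)).trans ?_)
        exact (Category.assoc _ _ _).symm.trans ((congrArg (· ≫ v.left) (pullback.lift_snd _ _ _)).trans
          ((Category.id_comp _).trans hy.symm))
      · exact (Category.assoc _ _ _).trans ((congrArg (secPt ζ ≫ ·) (pullback.lift_snd _ _ _)).trans
          (pullback.lift_fst _ _ _))
    obtain ⟨j, m₀, hm₀⟩ := (sigmaOpenCover fun ζ => (O ζ).toScheme).exists_eq ((z ≫ a).base default)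
    let m : Spec (CommRingCat.of Ω) ⟶ (O j).toScheme :=
      IsOpenImmersion.lift (Limits.Sigma.ι (fun ζ => (O ζ).toScheme) j) (z ≫ a) (by
        rintro _ ⟨w, rfl⟩
        rw [Subsingleton.elim w default]
        exact ⟨m₀, hm₀⟩)
    have hm : m ≫ Limits.Sigma.ι (fun ζ => (O ζ).toScheme) j = z ≫ a := IsOpenImmersion.lift_fac _ _ _
    have hmy : m ≫ (O j).ι = y := by
      have := congrArg (· ≫ g) hm
      simp only [g, Category.assoc, Sigma.ι_desc] at this
      exact this.trans (congrArg (z ≫ ·) ha)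
    have hj : ζ = j := hisoO j ζ (by
      refine (congrArg (fun w : Spec (CommRingCat.of Ω) ⟶ Z₁.left => w.base default ∈ O j)
        (hbc.trans hmy.symm)).mpr ?_
      rw [Scheme.Hom.comp_apply]
      exact (m.base default).2)
    let m₁ := m ≫ (openLift ((EtCoh.bc π).map (g₁ j)) (O₁ j) (O j) inf_le_left).left
    have hm₁ : m₁ ≫ (O₁ j).ι = (bcPt j (V₁ j) (v₁ j)).left := by
      refine (Category.assoc _ _ _).trans ((congrArg (m ≫ ·)
        (((EtCoh.bc π).map (g₁ j)).left.resLE_comp_ι inf_le_left)).trans ?_)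
      refine (Category.assoc _ _ _).symm.trans ((congrArg (· ≫ _) (hmy.trans hbc.symm)).trans ?_)
      exact (congrArg (fun i : Pts π v₀ => (bcPt i V v).left ≫ ((EtCoh.bc π).map (g₁ j)).left) hj).trans
        (congrArg (fun w => w.left) (bcPt_map j (g₁ j) (hg₁ j)))
    have hm₁' : m₁ ≫ (openObj ((EtCoh.bc π).obj (V₁ j)) (O₁ j)).hom = j.1 := by
      refine (Category.assoc _ _ _).symm.trans ((congrArg (· ≫ _) hm₁).trans ?_)
      exact Over.w (bcPt j (V₁ j) (v₁ j))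
    have hkk := hk j (Over.homMk m₁ hm₁') (Over.OverMorphism.ext hm₁)
    have hl : z ≫ a₃ = (q j).l ≫ (ιT j).left := by
      show z ≫ a ≫ bT = (q j).l ≫ Limits.Sigma.ι (fun ζ => (qU ζ).left) j
      rw [← Category.assoc, ← hm, Category.assoc, Sigma.ι_desc, ← Category.assoc]
      refine congrArg (· ≫ _) ?_
      show m ≫ _ ≫ (k j).left ≫ _ = _
      rw [← Category.assoc, ← Category.assoc, show m₁ ≫ (k j).left = zz j from congrArg (fun w => w.left) hkk]
      exact pullback.lift_snd _ _ _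
    rw [hl]
    refine (hrel j).congr_right ?_
    have := eqv_map (ιT j) (q j).l τ
    rwa [hτ j] at this
  -- shrink to make all pairs related
  let ZZ := pullback h₃ h₃
  let hh : ZZ ⟶ V₃.left := pullback.fst h₃ h₃ ≫ h₃
  haveI : IsFinite h₃ := MorphismProperty.pullback_fst (P := @IsFinite) _ _ inferInstance
  haveI : IsFinite hh := inferInstanceAs (IsFinite (pullback.fst h₃ h₃ ≫ h₃))
  obtain ⟨L, hL⟩ := exists_relLocus φ τ τ (pullback.fst h₃ h₃ ≫ a₃) (pullback.snd h₃ h₃ ≫ a₃) (by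
    refine Eq.trans ?_ (Eq.trans (congrArg (· ≫ V₃.hom) pullback.condition) ?_)
    · exact (congrArg (· ≫ f) (Category.assoc _ _ _)).trans ((Category.assoc _ _ _).trans
        ((congrArg (pullback.fst h₃ h₃ ≫ ·) hc).trans (Category.assoc _ _ _).symm))
    · exact (Category.assoc _ _ _).trans ((congrArg (pullback.snd h₃ h₃ ≫ ·) hc.symm).trans
        ((Category.assoc _ _ _).symm.trans (congrArg (· ≫ f) (Category.assoc _ _ _).symm))))
  let C : Set V₃.left := hh.base '' (L : Set ZZ)ᶜ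
  have hC : IsClosed C := hh.isClosedMap _ L.2.isClosed_compl
  have hvC : v'.base default ∉ C := by
    rintro ⟨c, hc', hcv⟩
    obtain ⟨c', hc'', -⟩ := Scheme.Pullback.exists_preimage_pullback (f := hh) (g := v') c default hcv
    obtain ⟨ζ, hζ⟩ := surjective_qOf (f := hh) (η := v') c'
    have hcζ : ζ.1.base default = c := by
      refine Eq.trans ?_ hc''
      rw [← hζ]
      exact (congrArg (fun m : Spec (CommRingCat.of Ω) ⟶ ZZ => m.base default) (pullback.lift_fst ζ.1 (𝟙 _)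
        (ζ.2.trans (Category.id_comp v').symm))).symm.trans (Scheme.Hom.comp_apply _ _ _)
    apply hc'
    rw [← hcζ]
    refine (hL Ω ζ.1).1 ?_
    have h1 : (ζ.1 ≫ pullback.fst h₃ h₃) ≫ h₃ = v' := (Category.assoc _ _ _).trans ζ.2
    have h2 : (ζ.1 ≫ pullback.snd h₃ h₃) ≫ h₃ = v' :=
      ((Category.assoc _ _ _).trans (congrArg (ζ.1 ≫ ·) pullback.condition.symm)).trans ζ.2
    simp only [← Category.assoc]
    exact Rel.trans hφ (Rel.symm hφ (hfib _ h1)) (hfib _ h2)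
  let V₄o : V₃.left.Opens := ⟨Cᶜ, hC.isOpen_compl⟩
  obtain ⟨v₄, hv₄⟩ := exists_openPt V₄o (ptMk v' hv₃ : (Scheme.pointSmallEtale η).fiber.obj V₃) hvC
  let Z₄ := pullback (openHom V₃ V₄o).left h₃
  let h₄ : Z₄ ⟶ (openObj V₃ V₄o).left := pullback.fst _ _
  haveI := hflat
  haveI := hlfp
  haveI := hsurj
  haveI : UniversallyOpen π := inferInstance
  haveI : UniversallyOpen h₄ := inferInstanceAs (UniversallyOpen (pullback.fst _ h₃))
  haveI : Surjective h₃ := inferInstanceAs (Surjective (pullback.fst q' (pullback.fst V.hom π)))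
  haveI : Surjective h₄ := inferInstanceAs (Surjective (pullback.fst _ h₃))
  obtain ⟨x, hx⟩ := h₃.surjective (v'.base default)
  obtain ⟨c, -, -⟩ := Scheme.Pullback.exists_preimage_pullback (f := h₃) (g := v') x default hx
  obtain ⟨ζ₀, -⟩ := surjective_qOf (f := h₃) (η := v') c
  let v₄' : Spec (CommRingCat.of Ω) ⟶ (openObj V₃ V₄o).left := v₄.left
  have hv₄' : v₄' ≫ (openHom V₃ V₄o).left = v' := congrArg (fun z => z.left) hv₄
  refine ⟨openObj V₃ V₄o, v₄', Over.w v₄, Z₄, h₄, inferInstance, inferInstance, T, τ,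
    pullback.snd _ _ ≫ a₃, ?_, ?_, Ω, inferInstance, inferInstance, 𝟙 _,
    pullback.lift v₄' ζ₀.1 (hv₄'.trans ζ₀.2.symm), ?_, ?_⟩
  · show ((pullback.snd _ _ ≫ a₃) ≫ T.hom) ≫ f = h₄ ≫ (openHom V₃ V₄o).left ≫ V₃.hom
    rw [Category.assoc, Category.assoc, ← Category.assoc a₃, hc, pullback.condition_assoc]
  · intro Ω' _ _ z z' hz
    let t : Spec (CommRingCat.of Ω') ⟶ ZZ := pullback.lift (z ≫ pullback.snd _ _) (z' ≫ pullback.snd _ _) (by
      rw [Category.assoc, Category.assoc, ← pullback.condition, ← Category.assoc, hz, Category.assoc])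
    have hmem : hh.base (t.base default) ∈ V₄o := by
      have e1 : t ≫ hh = (z ≫ h₄) ≫ (openHom V₃ V₄o).left := by
        show t ≫ pullback.fst h₃ h₃ ≫ h₃ = _
        rw [pullback.lift_fst_assoc, Category.assoc, ← pullback.condition, Category.assoc]
      rw [← Scheme.Hom.comp_apply, e1, Scheme.Hom.comp_apply]
      exact ((z ≫ h₄).base default).2
    have htL : t.base default ∈ L := by
      by_contra hn
      exact hmem ⟨_, hn, rfl⟩
    have hr' := (hL Ω' t).2 htL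
    rw [show t ≫ pullback.fst h₃ h₃ ≫ a₃ = z ≫ pullback.snd _ _ ≫ a₃ from
        (pullback.lift_fst_assoc _ _ _ _).trans (Category.assoc _ _ _),
      show t ≫ pullback.snd h₃ h₃ ≫ a₃ = z' ≫ pullback.snd _ _ ≫ a₃ from
        (pullback.lift_snd_assoc _ _ _ _).trans (Category.assoc _ _ _)] at hr'
    exact hr'
  · exact (pullback.lift_fst _ _ _).trans (Category.id_comp _).symm
  · rw [pullback.lift_snd_assoc]
    have h1 := Rel.symm hφ (hfib ζ₀.1 ζ₀.2)
    refine h1.congr_right ?_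
    exact ⟨(PS.pull_ξ (𝟙 _) p).trans (Category.id_comp _) |>.symm,
      congrArg (fun w => germ p.ξ F' p.U w p.s) (pt_ext (Category.id_comp _).symm)⟩

include hφ in
/-- **Effective descent along fppf coverings.** -/
theorem isEffective_of_fppf [Surjective f] [Flat f] [LocallyOfFinitePresentation f] :
    EtDesc.IsEffective f F' φ :=
  isEffective_of_open hφ inferInstance (hasLocalData_of_fppf hφ)

end Groth.Agent.H15Site.EffDesc
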